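import Cfsg.Agent.Lib.StdCover.Setup
import Cfsg.Agent.Lib.CoverType.Invariants
import Cfsg.Agent.Lib.Invol.ZStarFinal

/-!
# The centraliser of a standard double cover of an alternating group

For a conjugate `e = g z g⁻¹` commuting with `z`, the centraliser of `e` in `L` contains a copy of `SL(2,3)`.
Its image in the action of the centraliser of `e` on the conjugate of `L` shows that `z` is even there, whence `e`
lies in `L`, and that the two-part of the centraliser of `L` is generated by `z`.
-/

set_option autoImplicit false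

namespace CfsgLib.StdCover.Setting

open Equiv Equiv.Perm AltCover

variable {G : Type*} [Group G] [Finite G] {n : ℕ} {L : Subgroup G}
  {π : L →* alternatingGroup (Fin n)} {z : L}

/-- A conjugate of `z` commuting with `z` and different from it. -/
def Pair (z : L) (g : G) : Prop := Commute (g * z * g⁻¹) (z : G) ∧ ¬ Commute g (z : G)

theorem pair_inv {g : G} (h : Pair z g) : Pair z g⁻¹ := by
  refine ⟨?_, fun e => h.2 ?_⟩
  · have e := h.1.symm.map (MulAut.conj g⁻¹).toMonoidHom
    simpa [mul_assoc] using e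
  · simpa using e.inv_left

/-- Conjugation back from the centraliser of `g z g⁻¹`. -/
def back (z : L) (g : G) :
    Subgroup.centralizer ({g * z * g⁻¹} : Set G) →* Subgroup.centralizer ({(z : G)} : Set G) :=
  ((MulAut.conj g⁻¹).toMonoidHom.comp (Subgroup.centralizer ({g * z * g⁻¹} : Set G)).subtype).codRestrict _
    fun x => Subgroup.mem_centralizer_singleton_iff.2 (by
      have e := (show Commute (x : G) (g * z * g⁻¹) from Subgroup.mem_centralizer_singleton_iff.1 x.2).map
        (MulAut.conj g⁻¹).toMonoidHom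
      simpa [mul_assoc] using e.eq)

theorem back_apply (g : G) (x : Subgroup.centralizer ({g * z * g⁻¹} : Set G)) :
    (back z g x : G) = g⁻¹ * x * g := by simp [back]

/-- `z` in the centraliser of a commuting conjugate. -/
def zE (z : L) {g : G} (h : Pair z g) : Subgroup.centralizer ({g * z * g⁻¹} : Set G) :=
  ⟨z, Subgroup.mem_centralizer_singleton_iff.2 h.1.symm.eq⟩

/-- The action of the centraliser of `g z g⁻¹` on the conjugate of `L`. -/
noncomputable def phi (S : Setting π z) (g : G) :
    Subgroup.centralizer ({g * z * g⁻¹} : Set G) →* Perm (Fin n) := S.act.comp (back z g)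

variable {g : G}

theorem phi_zE_ne (S : Setting π z) (h : Pair z g) : S.phi g (zE z h) ≠ 1 := by
  intro e
  have hk := S.act_eq_one.1 (show S.act (back z g (zE z h)) = 1 from e)
  rw [back_apply] at hk
  refine h.2 (S.tight g _ hk ?_ ?_ ?_)
  · show g * (g⁻¹ * (z : G) * g) * g⁻¹ ∈ _
    rw [show g * (g⁻¹ * (z : G) * g) * g⁻¹ = z by group]
    exact S.t_mem
  · show g⁻¹ * (z : G) * g * (g⁻¹ * z * g) = 1
    rw [show g⁻¹ * (z : G) * g * (g⁻¹ * z * g) = g⁻¹ * ((z : G) * z) * g by group, S.tt]
    group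
  · intro e1
    refine S.tne ?_
    have e2 : g⁻¹ * (z : G) * g = 1 := e1
    rw [show (z : G) = g * (g⁻¹ * z * g) * g⁻¹ by group, e2]
    group

/-- The image of the quaternion group in the centraliser of a commuting conjugate. -/
theorem exists_rels (S : Setting π z) (h : Pair z g) :
    ∃ I J A : Perm (Fin n), RelsQ I J A (S.phi g (zE z h)) ∧
      ∀ k : Subgroup.centralizer ({g * z * g⁻¹} : Set G), (k : G) ∈ Subgroup.centralizer (L : Set G) →
        Commute (S.phi g k) I ∧ Commute (S.phi g k) A := by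
  let eC : Subgroup.centralizer ({(z : G)} : Set G) :=
    ⟨g * z * g⁻¹, Subgroup.mem_centralizer_singleton_iff.2 h.1.eq⟩
  have hee : eC * eC = 1 := Subtype.ext (by
    show g * z * g⁻¹ * (g * z * g⁻¹) = 1
    rw [show g * (z : G) * g⁻¹ * (g * z * g⁻¹) = g * ((z : G) * z) * g⁻¹ by group, S.tt]
    group)
  obtain ⟨a, b, ha, hb, har, hbr, hab, hA⟩ := S.wit (S.act eC) (by rw [← map_mul, hee, map_one])
  obtain ⟨a', ha', ha3⟩ := CoverType.exists_lift_cube S.cov ha
  obtain ⟨b', hb', hb3⟩ := CoverType.exists_lift_cube S.cov hb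
  have hac : Commute (g * z * g⁻¹) (a' : G) :=
    S.commute_cube (x := eC) ha3 (by rw [show perm π a' = a from ha']; exact har.symm)
  have hbc : Commute (g * z * g⁻¹) (b' : G) :=
    S.commute_cube (x := eC) hb3 (by rw [show perm π b' = b from hb']; exact hbr.symm)
  let aE : Subgroup.centralizer ({g * z * g⁻¹} : Set G) := ⟨a', Subgroup.mem_centralizer_singleton_iff.2 hac.symm.eq⟩
  let bE : Subgroup.centralizer ({g * z * g⁻¹} : Set G) := ⟨b', Subgroup.mem_centralizer_singleton_iff.2 hbc.symm.eq⟩
  -- relations in `L`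
  set i : L := a' * b' with hi
  set j : L := a'⁻¹ * i * a' with hj
  have hn := S.hn
  have hpi : perm π i = a * b := by
    rw [hi, map_mul, show perm π a' = a from ha', show perm π b' = b from hb']
  have hii : i * i = z := S.cov.dt_sq (by omega) (x := i) (by
    show (perm π i).cycleType = _
    rw [hpi, hab])
  have hza : ∀ w : L, w * z = z * w := S.cov.central
  have hjj : j * j = z := by
    rw [hj, show a'⁻¹ * i * a' * (a'⁻¹ * i * a') = a'⁻¹ * (i * i) * a' by group, hii, hza, mul_assoc,
      inv_mul_cancel, mul_one]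
  have hpj : perm π j = a⁻¹ * (a * b) * a := by
    rw [show perm π j = (perm π a')⁻¹ * perm π i * perm π a' by rw [hj, map_mul, map_mul, map_inv], hpi,
      show perm π a' = a from ha']
  have hpij : perm π (i * j) = perm π (a' * i * a'⁻¹) := by
    rw [map_mul (perm π) i j, hpj, map_mul (perm π) (a' * i), map_mul (perm π) a' i, map_inv, hpi,
      show perm π a' = a from ha', hA]
  have hsq : i * j * (i * j) = z := S.cov.dt_sq (by omega) (x := i * j) (by
    show (perm π (i * j)).cycleType = _
    rw [hpij, map_mul, map_mul, map_inv, cycleType_conj, hpi, hab])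
  have hji : j * i = z * (i * j) := by
    have hi' : i⁻¹ = z * i := inv_eq_of_mul_eq_one_left (by rw [mul_assoc, hii, S.cov.sq_z])
    have hj' : j⁻¹ = z * j := inv_eq_of_mul_eq_one_left (by rw [mul_assoc, hjj, S.cov.sq_z])
    have e : j * i = i⁻¹ * (i * j * (i * j)) * j⁻¹ := by group
    rw [e, hsq, hi', hj', show z * i * z * (z * j) = z * (i * (z * z)) * j by group, S.cov.sq_z, mul_one, mul_assoc]
  -- transport
  let jE := aE⁻¹ * (aE * bE) * aE
  have cI : ∀ u v : Subgroup.centralizer ({g * z * g⁻¹} : Set G), (u : G) = v → S.phi g u = S.phi g v :=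
    fun u v e => congrArg _ (Subtype.ext e)
  have cL : ∀ u v : L, u = v → (u : G) = v := fun u v e => congrArg Subtype.val e
  have hII : S.phi g (aE * bE) * S.phi g (aE * bE) = S.phi g (zE z h) := by
    rw [← map_mul]
    exact cI _ _ (cL (i * i) z hii)
  refine ⟨S.phi g (aE * bE), S.phi g jE, S.phi g aE, ⟨hII, ?_, ?_, S.phi_zE_ne h, ?_, ?_, ?_, ?_⟩, fun k hk => ?_⟩
  · rw [← map_mul]; exact cI _ _ (cL (j * j) z hjj)
  · rw [← map_mul, ← map_one (S.phi g)]; exact cI _ _ S.tt
  · rw [← map_mul, ← map_mul, ← map_mul]; exact cI _ _ (cL (j * i) (z * (i * j)) hji)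
  · rw [← map_pow, ← map_one (S.phi g)]
    exact congrArg _ (Subtype.ext (congrArg Subtype.val ha3 :))
  · rw [show jE = aE⁻¹ * (aE * bE) * aE from rfl, map_mul, map_mul, map_inv]
  · rcases S.cov.eq_or (x := a' * i * a'⁻¹) (y := i * j) (Subtype.ext hpij.symm) with e | e
    · left
      rw [← map_inv, ← map_mul, ← map_mul, ← map_mul]
      exact cI _ _ (cL _ _ e)
    · right
      rw [← map_inv, ← map_mul, ← map_mul, ← map_mul, ← map_mul]
      exact cI _ _ (cL _ _ e)
  · have hka : ∀ l : L, Commute (k : G) l := fun l => (Subgroup.mem_centralizer_iff.1 hk l l.2).symm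
    exact ⟨(show Commute k (aE * bE) from Subtype.ext (hka i).eq).map (S.phi g),
      (show Commute k aE from Subtype.ext (hka a').eq).map (S.phi g)⟩

/-- `z` acts evenly on the other conjugate. -/
theorem sign_phi (S : Setting π z) (h : Pair z g) : sign (S.phi g (zE z h)) = 1 := by
  obtain ⟨I, J, A, R, -⟩ := S.exists_rels h
  rw [← R.II, map_mul, Int.units_mul_self]

/-- An involution centralising `L` and `g z g⁻¹` does not fix the points moved by `z`. -/
theorem no_fix (S : Setting π z) (h : Pair z g) {k : Subgroup.centralizer ({g * z * g⁻¹} : Set G)}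
    (hk : (k : G) ∈ Subgroup.centralizer (L : Set G)) (h2 : (k : G) * k = 1) (h1 : (k : G) ≠ 1) :
    ¬ ∀ q, S.phi g (zE z h) q ≠ q → S.phi g k q = q := by
  intro hfix
  obtain ⟨I, J, A, R, -⟩ := S.exists_rels h
  set T := S.phi g (zE z h) with hT
  obtain ⟨p, hp⟩ : ∃ p, T p ≠ p := by
    by_contra hc
    push Not at hc
    exact R.T_ne (Perm.ext hc)
  have hIp := RelsQ.free R.II R.TT hp
  have hJp := RelsQ.free R.JJ R.TT hp
  have hIJ : I p ≠ J p := by
    intro e
    have e1 := congrArg I e
    rw [(R.apply_pq p).1] at e1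
    exact (RelsQ.free R.IJsq R.TT hp).2 e1.symm
  set c := Known.AltAut.cyc p (I p) (J p) with hc
  have hm := R.moved_all hp
  have hXc : Commute (S.phi g k) c := by
    refine mul_inv_eq_iff_eq_mul.1 ?_
    rw [hc, Known.AltAut.cyc_conj, hfix p hp, hfix _ (hm _ (by simp [RelsQ.orb])),
      hfix _ (hm _ (by simp [RelsQ.orb]))]
  have hc3 : c ^ 3 = 1 :=
    (Known.AltAut.isThreeCycle_cyc hIp.1.symm hJp.1.symm hIJ).orderOf ▸ pow_orderOf_eq_one c
  obtain ⟨l, hl, hl3⟩ := CoverType.exists_lift_cube S.cov hc3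
  have hkl : Commute (back z g k : G) l := S.commute_cube hl3 (by
    rw [show perm π l = c from hl]; exact hXc)
  rw [back_apply] at hkl
  have hkl' : Commute (g * l * g⁻¹) (k : G) := by
    have e := hkl.symm.map (MulAut.conj g).toMonoidHom
    simpa [mul_assoc] using e
  have hz : Commute (g * l * g⁻¹) (z : G) := S.tight _ _ hk (by
    rw [hkl'.eq, mul_inv_cancel_right]; exact hk) h2 h1
  have hzl : Commute (back z g (zE z h)) ⟨l, Subgroup.mem_centralizer_singleton_iff.2 (S.commute_z l)⟩ := by
    refine Subtype.ext ?_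
    show (back z g (zE z h) : G) * l = l * (back z g (zE z h) : G)
    rw [back_apply]
    have e := hz.symm.map (MulAut.conj g⁻¹).toMonoidHom
    simpa [mul_assoc, zE] using e.eq
  have hTc : Commute T c := by
    have e := hzl.map S.act
    rwa [S.act_L, show perm π l = c from hl] at e
  have e := DFunLike.congr_fun hTc.eq p
  rw [Perm.mul_apply, Perm.mul_apply, hc, Known.AltAut.cyc_a hIp.1.symm hJp.1.symm,
    Known.AltAut.cyc_other hp (fun e => hIp.2 e.symm) (fun e => hJp.2 e.symm)] at e
  exact hIp.1 (T.injective e)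

/-- An element of order at most four centralising `L` and a commuting conjugate of `z` is `1` or `z`. -/
theorem cases_small (S : Setting π z) (h : Pair z g) {k : G} (hk : k ∈ Subgroup.centralizer (L : Set G))
    (hke : Commute k (g * z * g⁻¹)) (hk2 : k * k = 1 ∨ k * k = z) : k = 1 ∨ k = z := by
  obtain ⟨I, J, A, R, hcomm⟩ := S.exists_rels h
  let kE : Subgroup.centralizer ({g * z * g⁻¹} : Set G) := ⟨k, Subgroup.mem_centralizer_singleton_iff.2 hke.eq⟩
  obtain ⟨p, hp⟩ : ∃ p, S.phi g (zE z h) p ≠ p := by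
    by_contra hc
    push Not at hc
    exact R.T_ne (Perm.ext hc)
  have hmv := (RelsQ.moved R.TT (Commute.refl _) hp).2
  obtain ⟨hI, hA⟩ := hcomm kE hk
  have hX := R.cases_moved (by have := S.hn'; omega) hI hA
  have hkk : k * k = 1 := by
    refine hk2.resolve_right fun e => ?_
    have e1 : S.phi g kE * S.phi g kE = S.phi g (zE z h) := by
      rw [← map_mul]; exact congrArg _ (Subtype.ext e)
    have e2 := DFunLike.congr_fun e1 p
    rw [Perm.mul_apply] at e2
    rcases hX with hX | hX
    · rw [hX p hp, hX p hp] at e2; exact hp e2.symm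
    · rw [hX p hp, hX _ hmv, ← Perm.mul_apply, R.TT, Perm.one_apply] at e2; exact hp e2.symm
  rcases hX with hX | hX
  · left
    by_contra h1
    exact S.no_fix h (k := kE) hk hkk h1 hX
  · right
    by_contra h1
    have hkz : Commute k (z : G) := (Subgroup.mem_centralizer_iff.1 hk (z : G) z.2).symm
    refine S.no_fix h (k := kE * zE z h) (Subgroup.mul_mem _ hk S.t_mem) ?_ ?_ ?_
    · show k * z * (k * z) = 1
      rw [mul_assoc, ← mul_assoc (z : G) k, ← hkz.eq, mul_assoc k (z : G), S.tt, mul_one, hkk]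
    · intro e
      have e' : k * z = 1 := e
      exact h1 (by rw [eq_inv_of_mul_eq_one_left e', inv_eq_of_mul_eq_one_left S.tt])
    · intro q hq
      rw [map_mul, Perm.mul_apply, hX _ (RelsQ.moved R.TT (Commute.refl _) hq).2, ← Perm.mul_apply, R.TT,
        Perm.one_apply]

/-- A commuting conjugate of `z` lies in `L`. -/
theorem pair_mem (S : Setting π z) (h : Pair z g) :
    ∃ l : L, (l : G) = g * z * g⁻¹ ∧ l * l = 1 ∧ l ≠ 1 ∧ l ≠ z := by
  let eC : Subgroup.centralizer ({(z : G)} : Set G) :=
    ⟨g * z * g⁻¹, Subgroup.mem_centralizer_singleton_iff.2 h.1.eq⟩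
  have hs : sign (S.act eC) = 1 := by
    have e := S.sign_phi (pair_inv h)
    have e' : back z g⁻¹ (zE z (pair_inv h)) = eC := Subtype.ext (by rw [back_apply]; simp [zE, eC, mul_assoc])
    rwa [phi, MonoidHom.comp_apply, e'] at e
  obtain ⟨l, hl⟩ := CoverType.exists_lift S.cov hs
  let lC : Subgroup.centralizer ({(z : G)} : Set G) :=
    ⟨l, Subgroup.mem_centralizer_singleton_iff.2 (S.commute_z l)⟩
  have hk : ((lC⁻¹ * eC : Subgroup.centralizer ({(z : G)} : Set G)) : G) ∈ Subgroup.centralizer (L : Set G) :=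
    S.act_eq_one.1 (by rw [map_mul, map_inv, S.act_L, show perm π l = S.act eC from hl, inv_mul_cancel])
  set k : G := (l : G)⁻¹ * (g * z * g⁻¹) with hkdef
  have hk' : k ∈ Subgroup.centralizer (L : Set G) := hk
  have hkl : Commute k (l : G) := (Subgroup.mem_centralizer_iff.1 hk' l l.2).symm
  have hek : g * z * g⁻¹ = l * k := by rw [hkdef, mul_inv_cancel_left]
  have hee : g * (z : G) * g⁻¹ * (g * z * g⁻¹) = 1 := by
    rw [show g * (z : G) * g⁻¹ * (g * z * g⁻¹) = g * ((z : G) * z) * g⁻¹ by group, S.tt]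
    group
  have hprod : ((l * l : L) : G) * (k * k) = 1 := by
    rw [hek, show (l : G) * k * (l * k) = l * (k * l) * k by group, hkl.eq] at hee
    rw [← hee, Subgroup.coe_mul]
    group
  have hl2 : l * l = 1 ∨ l * l = z := S.L_meet (by
    rw [eq_inv_of_mul_eq_one_left hprod]
    exact Subgroup.inv_mem _ (Subgroup.mul_mem _ hk' hk'))
  have hk2 : k * k = 1 ∨ k * k = z := by
    rcases hl2 with e | e <;> rw [e] at hprod
    · exact .inl (by simpa using hprod)
    · exact .inr (by rw [eq_inv_of_mul_eq_one_right hprod, inv_eq_of_mul_eq_one_left S.tt])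
  obtain ⟨l', hl'⟩ : ∃ l' : L, (l' : G) = g * z * g⁻¹ := by
    rcases S.cases_small h hk' (by rw [hek]; exact hkl.mul_right (Commute.refl k)) hk2 with e | e
    · exact ⟨l, by rw [hek, e, mul_one]⟩
    · exact ⟨l * z, by rw [hek, e]; rfl⟩
  refine ⟨l', hl', Subtype.ext (by rw [Subgroup.coe_mul, hl']; exact hee), fun e => ?_, fun e => ?_⟩
  · rw [e] at hl'
    refine S.tne ?_
    have e1 : (1 : G) = g * z * g⁻¹ := hl'
    rw [show (z : G) = g⁻¹ * (g * z * g⁻¹) * g by group, ← e1]
    group
  · rw [e] at hl'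
    exact h.2 (mul_inv_eq_iff_eq_mul.1 hl'.symm)

variable [IsSimpleGroup G]

/-- Some conjugate of `z` commutes with it and differs from it. -/
theorem exists_pair (S : Setting π z) : ∃ g, Pair z g := by
  by_contra hno
  have ho : orderOf (z : G) = 2 := orderOf_eq_prime (hp := ⟨Nat.prime_two⟩) (by rw [pow_two]; exact S.tt) S.tne
  have hcz : (z : G) ∈ Subgroup.center G := by
    refine Invol.zstar_center ⟨ho, fun g hg => ?_⟩ ?_
    · by_contra hne
      exact hno ⟨g, hg.symm, fun e => hne (by rw [e.eq, mul_inv_cancel_right])⟩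
    · rcases (inferInstance : (Cfsg.oddCore G).Normal).eq_bot_or_eq_top with e | e
      · exact e
      · exfalso
        have h1 : Odd (Nat.card (Cfsg.oddCore G)) := Cores.odd_card_oddCore
        rw [e, Subgroup.card_top] at h1
        exact (Nat.not_even_iff_odd.2 h1) (even_iff_two_dvd.2 (ho ▸ orderOf_dvd_natCard _))
  rcases (inferInstance : (Subgroup.center G).Normal).eq_bot_or_eq_top with e | e
  · rw [e, Subgroup.mem_bot] at hcz
    exact S.tne hcz
  · exact S.ncomm ⟨⟨fun a b => Subgroup.mem_center_iff.1 (e ▸ Subgroup.mem_top b : b ∈ Subgroup.center G) a⟩⟩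

end CfsgLib.StdCover.Setting
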