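import Cfsg.Agent.Lib.StdCover.Recog

/-!
# Degree eight
-/

set_option autoImplicit false

namespace CfsgLib.StdCover

open Equiv Equiv.Perm AltCover

private theorem witP_of {n : ℕ} {r a : Perm (Fin n)} (p q u v : Fin n) (hd : p ≠ q ∧ u ≠ v ∧ p ≠ u ∧ p ≠ v ∧ q ≠ u ∧ q ≠ v)
    (h : a ^ 3 = 1 ∧ (a⁻¹ * (swap p q * swap u v)) ^ 3 = 1 ∧ a * r = r * a ∧
      a⁻¹ * (swap p q * swap u v) * r = r * (a⁻¹ * (swap p q * swap u v)) ∧
      a * (swap p q * swap u v) * a⁻¹ = swap p q * swap u v * (a⁻¹ * (swap p q * swap u v) * a)) : WitP r :=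
  ⟨a, a⁻¹ * (swap p q * swap u v), h.1, h.2.1, h.2.2.1, h.2.2.2.1,
    by rw [mul_inv_cancel_left]; exact type22 _ _ _ _ hd, by rw [mul_inv_cancel_left]; exact h.2.2.2.2⟩

theorem witP_eight (r : Perm (Fin 8)) (h : r * r = 1) : WitP r := by
  have hdisj : Perm.Disjoint (swap (0 : Fin 8) 1 * swap 2 3) (swap 4 5 * swap 6 7) := by
    unfold Perm.Disjoint; decide +kernel
  have hdisj' : Perm.Disjoint (swap (0 : Fin 8) 1 * swap 2 3) (swap 4 5) := by
    unfold Perm.Disjoint; decide +kernel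
  refine witP_of_reps (reps := [1, swap 4 5, swap 4 5 * swap 6 7, swap 0 1 * swap 2 3 * swap 4 5,
    swap 0 1 * swap 2 3 * (swap 4 5 * swap 6 7)]) ?_ (fun m hm => ?_) h
  · intro r hr
    simp only [List.mem_cons, List.not_mem_nil, or_false] at hr
    rcases hr with rfl | rfl | rfl | rfl | rfl
    · exact witP_of (a := swap 0 1 * swap 1 2) 0 1 2 3 (by decide) (by decide +kernel)
    · exact witP_of (a := swap 0 1 * swap 1 2) 0 1 2 3 (by decide) (by decide +kernel)
    · exact witP_of (a := swap 0 1 * swap 1 2) 0 1 2 3 (by decide) (by decide +kernel)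
    · exact witP_of (a := swap 0 2 * swap 2 4 * (swap 1 3 * swap 3 5)) 0 1 2 3 (by decide) (by decide +kernel)
    · exact witP_of (a := swap 0 2 * swap 2 4 * (swap 1 3 * swap 3 5)) 0 1 2 3 (by decide) (by decide +kernel)
  · have hm4 : m ≤ 4 := by omega
    interval_cases m
    · exact ⟨1, by simp, by simp⟩
    · exact ⟨swap 4 5, by simp, cycleType_swap_two (by decide)⟩
    · exact ⟨swap 4 5 * swap 6 7, by simp, type22 _ _ _ _ (by decide)⟩
    · refine ⟨swap 0 1 * swap 2 3 * swap 4 5, by simp, ?_⟩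
      rw [hdisj'.cycleType_mul, type22 _ _ _ _ (by decide), cycleType_swap_two (by decide)]
      rfl
    · refine ⟨swap 0 1 * swap 2 3 * (swap 4 5 * swap 6 7), by simp, ?_⟩
      rw [hdisj.cycleType_mul, type22 _ _ _ _ (by decide), type22 _ _ _ _ (by decide)]
      rfl

theorem noOdd_eight {G : Type*} [Group G] {L : Subgroup G} {π : L →* alternatingGroup (Fin 8)} {z : L}
    (hc : Cover π z) : NoOdd π z := by
  intro x h hx2 hx1 hxz _ hodd hfix _
  have ht := CoverType.cycleType_invol hc (by norm_num) (by norm_num) hx2 hx1 hxz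
  have hsupp : (perm π x).support = Finset.univ := by
    refine Finset.eq_univ_of_card _ ?_
    rw [← sum_cycleType, show (perm π x).cycleType = R 4 from ht]
    rfl
  have hp : π h = 1 := Subtype.ext (Equiv.ext fun p => hfix p (mem_support.1 (hsupp ▸ Finset.mem_univ p)))
  rcases (hc.ker h).1 hp with e | e
  · exact e
  · rw [e, orderOf_eq_prime (p := 2) (hp := ⟨Nat.prime_two⟩) (by rw [pow_two]; exact hc.sq_z) hc.zne] at hodd
    exact absurd hodd (by decide)

end CfsgLib.StdCover
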