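import Cfsg.Agent.Lib.McLType.Endgame

/-!
# No strongly embedded subgroup has the McLaughlin group modulo an odd normal subgroup

The intersection with a conjugate by an outside involution is an odd group transitive on the involutions, so its
image in the McLaughlin group would be an odd subgroup of order divisible by 22275.
-/

set_option autoImplicit false

namespace CfsgLib.StdCover

open Subgroup CfsgLib.McLRec

theorem mcl_false {G : Type*} [Group G] [Finite G] {M : Subgroup G} (hM : Cfsg.IsStronglyEmbedded M) {t : M}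
    (ht : orderOf t = 2) (N : Subgroup M) [N.Normal] (e : M ⧸ N ≃* ↥Mgrp)
    (hC : Nat.card (centralizer ({e (QuotientGroup.mk t)} : Set ↥Mgrp)) = 40320) : False := by
  obtain ⟨g, hg⟩ : ∃ g, g ∉ M := by
    by_contra h
    push Not at h
    exact hM.1 (eq_top_iff.2 fun x _ => h x)
  have ht' : orderOf (t : G) = 2 := (orderOf_coe t).trans ht
  set u := g * t * g⁻¹ with hu
  have hu2 : orderOf u = 2 := (Invol.orderOf_conj_eq g t).trans ht'
  have huM : u ∉ M := fun h => by
    refine Nat.not_even_iff_odd.2 (hM.2.2 g hg) (even_iff_two_dvd.2 ?_)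
    rw [← hu2]
    exact Subgroup.orderOf_dvd_natCard _ ⟨h, t, t.2, rfl⟩
  set Du := M ⊓ M.map (MulAut.conj u).toMonoidHom with hDu
  have hodd : Odd (Nat.card Du) := hM.2.2 u huM
  let f : Du →* ↥Mgrp := e.toMonoidHom.comp ((QuotientGroup.mk' N).comp (inclusion inf_le_left))
  have hXodd : Odd (Nat.card f.range) := hodd.of_dvd_nat (card_range_dvd f)
  set C := centralizer ({e (QuotientGroup.mk t)} : Set ↥Mgrp) with hCdef
  haveI : MulAction.IsPretransitive f.range (↥Mgrp ⧸ C) := by
    refine (MulAction.isPretransitive_iff_base (QuotientGroup.mk 1 : ↥Mgrp ⧸ C)).2 fun q => ?_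
    obtain ⟨a, rfl⟩ := QuotientGroup.mk_surjective q
    obtain ⟨m, hm⟩ := QuotientGroup.mk_surjective (e.symm a)
    obtain ⟨d, hd, hdt⟩ := Invol.stronglyEmbedded_transitive hM hu2 huM ht' t.2
      (t := (m : G) * t * (m : G)⁻¹) ((Invol.orderOf_conj_eq _ _).trans ht')
      (M.mul_mem (M.mul_mem m.2 t.2) (M.inv_mem m.2))
    refine ⟨⟨f ⟨d, hd⟩, ⟨_, rfl⟩⟩, ?_⟩
    show QuotientGroup.mk (f ⟨d, hd⟩ * 1) = QuotientGroup.mk a
    rw [mul_one, QuotientGroup.eq, mem_centralizer_singleton_iff]
    have hdm : Commute (inclusion inf_le_left (⟨d, hd⟩ : Du))⁻¹ (1 : M) := Commute.one_right _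
    have hrel : (inclusion inf_le_left (⟨d, hd⟩ : Du))⁻¹ * m * t =
        t * ((inclusion inf_le_left (⟨d, hd⟩ : Du))⁻¹ * m) := Subtype.ext (by
      show d⁻¹ * (m : G) * t = t * (d⁻¹ * m)
      calc d⁻¹ * (m : G) * t = d⁻¹ * ((m : G) * t * (m : G)⁻¹) * m := by group
        _ = d⁻¹ * (d * t * d⁻¹) * m := by rw [hdt]
        _ = _ := by group)
    have h1 := congrArg (fun y => e (QuotientGroup.mk' N y)) hrel
    simp only [map_mul, map_inv, QuotientGroup.mk'_apply, hm, e.apply_symm_apply] at h1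
    exact h1
  have hidx : 22275 ∣ Nat.card f.range := by
    have h1 := MulAction.index_stabilizer_of_transitive (G := f.range) (QuotientGroup.mk 1 : ↥Mgrp ⧸ C)
    have h2 := C.index_mul_card
    rw [hC, card_Mgrp] at h2
    rw [← Subgroup.index_eq_card, show C.index = 22275 by omega] at h1
    exact h1 ▸ Subgroup.index_dvd_card _
  refine McLType.eleven_no_group (Cfsg.Agent.S0205.result hXodd) (fun y c hy hc => ?_) hidx
    (McLType.odd_dvd (card_Mgrp ▸ card_subgroup_dvd_card f.range) hXodd)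
  have h1 := McLType.sq_mem_zpowers ((orderOf_coe y).trans hy) (hc.map f.range.subtype)
  obtain ⟨i, hi⟩ := mem_zpowers_iff.1 h1
  have hcc : c * c ∈ zpowers y := mem_zpowers_iff.2 ⟨i, Subtype.ext (by simpa using hi)⟩
  obtain ⟨k, hk⟩ := hXodd.of_dvd_nat (orderOf_dvd_natCard c)
  rw [show c = (c * c) ^ (k + 1) by
    rw [← pow_two, ← pow_mul, show 2 * (k + 1) = 2 * k + 1 + 1 by ring, ← hk, pow_succ, pow_orderOf_eq_one,
      one_mul]]
  exact pow_mem hcc _

end CfsgLib.StdCover
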