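import Cfsg.Agent.Lib.StdCover.Structure

/-!
# The normaliser of the odd part

Conjugations moving `z` inside its centraliser normalise the odd part `D`; hence the normaliser `M` of `D` is
strongly embedded if it is proper, its involutions are conjugate in `M` to `z`, and modulo `D` the centraliser of
`z` in `M` is `L`.
-/

set_option autoImplicit false

namespace CfsgLib.StdCover.Setting

open Equiv Equiv.Perm AltCover

variable {G : Type*} [Group G] [Finite G] [IsSimpleGroup G] {n : ℕ} {L : Subgroup G}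
  {π : L →* alternatingGroup (Fin n)} {z : L}

/-- The odd part of the centraliser of `L`. -/
noncomputable def oddPart (S : Setting π z) : Subgroup G := S.exists_oddPart.choose

theorem odd_oddPart (S : Setting π z) : Odd (Nat.card S.oddPart) := S.exists_oddPart.choose_spec.1

theorem mem_oddPart (S : Setting π z) {x : G} :
    x ∈ S.oddPart ↔ x ∈ Subgroup.centralizer (L : Set G) ∧ Odd (orderOf x) :=
  S.exists_oddPart.choose_spec.2.1 x

theorem oddPart_le (S : Setting π z) {x : G} (h : x ∈ S.oddPart) : x ∈ Subgroup.centralizer (L : Set G) :=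
  (S.mem_oddPart.1 h).1

theorem commute_oddPart (S : Setting π z) {x : G} (h : x ∈ S.oddPart) (l : L) : Commute (l : G) x :=
  Subgroup.mem_centralizer_iff.1 (S.oddPart_le h) l l.2

/-- The centraliser of `z` is `L` times the odd part. -/
theorem decomp (S : Setting π z) {x : G} (hx : Commute x (z : G)) :
    ∃ (l : L) (d : G), d ∈ S.oddPart ∧ x = l * d := by
  let xC : Subgroup.centralizer ({(z : G)} : Set G) := ⟨x, Subgroup.mem_centralizer_singleton_iff.2 hx.eq⟩
  obtain ⟨l, hl⟩ := CoverType.exists_lift S.cov (S.act_even xC)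
  have hk : (((S.lC l)⁻¹ * xC : _) : G) ∈ Subgroup.centralizer (L : Set G) :=
    S.act_eq_one.1 (by rw [map_mul, map_inv, S.act_lC, show perm π l = S.act xC from hl, inv_mul_cancel])
  set k : G := (l : G)⁻¹ * x with hkdef
  have hxk : x = l * k := by rw [hkdef, mul_inv_cancel_left]
  rcases S.exists_oddPart.choose_spec.2.2 k hk with h | h
  · exact ⟨l, k, h, hxk⟩
  · refine ⟨l * z, k * z, h, ?_⟩
    rw [hxk, Subgroup.coe_mul, show k * (z : G) = z * k from (Subgroup.mem_centralizer_iff.1 hk (z : G) z.2).symm,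
      mul_assoc (l : G), ← mul_assoc (z : G) z, S.tt, one_mul]

theorem meet (S : Setting π z) {l : L} (h : (l : G) ∈ S.oddPart) : l = 1 := by
  refine (S.L_meet (S.oddPart_le h)).resolve_right fun e => ?_
  have ho := (S.mem_oddPart.1 h).2
  rw [e, orderOf_eq_prime (p := 2) (hp := ⟨Nat.prime_two⟩) (by rw [pow_two]; exact S.tt) S.tne] at ho
  exact absurd ho (by decide)

/-- Two-power elements commuting with `z` lie in `L`. -/
theorem two_mem (S : Setting π z) {x : G} (hx : Commute x (z : G)) (h2 : ∃ m, x ^ 2 ^ m = 1) : x ∈ L := by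
  obtain ⟨m, hm⟩ := h2
  exact S.two_mem_L (x := ⟨x, Subgroup.mem_centralizer_singleton_iff.2 hx.eq⟩) (S.act_even _)
    ⟨m, Subtype.ext (by simpa using hm)⟩

/-- The centraliser of `z` normalises the odd part. -/
theorem oddPart_norm (S : Setting π z) {c : G} (hc : Commute c (z : G)) {d : G} (hd : d ∈ S.oddPart) :
    c * d * c⁻¹ ∈ S.oddPart := by
  obtain ⟨hdK, ho⟩ := S.mem_oddPart.1 hd
  refine S.mem_oddPart.2 ⟨Subgroup.mem_centralizer_iff.2 fun l hl => ?_, by rwa [Invol.orderOf_conj_eq]⟩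
  have hl' : c⁻¹ * l * c⁻¹⁻¹ ∈ L := (Subgroup.mem_normalizer_iff.1 (S.cent _ hc.inv_left) l).1 hl
  have e : Commute (c⁻¹ * l * c⁻¹⁻¹) d := Subgroup.mem_centralizer_iff.1 hdK _ hl'
  have e' := e.map (MulAut.conj c).toMonoidHom
  simpa [mul_assoc] using e'.eq

/-- A commuting conjugation carries the odd part to itself. -/
theorem pair_norm (S : Setting π z) {g : G} (h : Pair z g) {d : G} (hd : d ∈ S.oddPart) :
    g⁻¹ * d * g ∈ S.oddPart := by
  obtain ⟨I, J, A, R, hcomm⟩ := S.exists_rels h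
  obtain ⟨e0, he0, -⟩ := S.pair_mem h
  obtain ⟨l1, hl1, hl12, hl11, hl1z⟩ := S.pair_mem (pair_inv h)
  let dE : Subgroup.centralizer ({g * z * g⁻¹} : Set G) :=
    ⟨d, Subgroup.mem_centralizer_singleton_iff.2 (by rw [← he0]; exact (S.commute_oddPart hd e0).symm.eq)⟩
  have hxz : Commute (g⁻¹ * d * g) (z : G) := by
    have e := Subgroup.mem_centralizer_singleton_iff.1 (back z g dE).2
    rwa [back_apply] at e
  obtain ⟨l, d', hd', hx⟩ := S.decomp hxz
  have hld : Commute (l : G) d' := S.commute_oddPart hd' l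
  obtain ⟨N, hN, hdN, hd'N⟩ : ∃ N, Odd N ∧ d ^ N = 1 ∧ d' ^ N = 1 :=
    ⟨Nat.card S.oddPart, S.odd_oddPart,
      (congrArg Subtype.val (pow_card_eq_one' (x := (⟨d, hd⟩ : S.oddPart))) :),
      (congrArg Subtype.val (pow_card_eq_one' (x := (⟨d', hd'⟩ : S.oddPart))) :)⟩
  have hlN : l ^ N = 1 := by
    refine Subtype.ext ?_
    have e : (g⁻¹ * d * g) ^ N = 1 := by
      rw [show g⁻¹ * d * g = g⁻¹ * d * g⁻¹⁻¹ by group, conj_pow, hdN, mul_one, mul_inv_cancel]
    rw [hx, hld.mul_pow, hd'N, mul_one] at e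
    simpa using e
  have hlodd : Odd (orderOf l) := hN.of_dvd_nat (orderOf_dvd_of_pow_eq_one hlN)
  suffices hl : l = 1 by rw [hx, hl, Subgroup.coe_one, one_mul]; exact hd'
  have hT : S.phi g (zE z h) = perm π l1 := by
    rw [← S.act_lC]
    refine congrArg S.act (Subtype.ext ?_)
    show (back z g (zE z h) : G) = l1
    rw [back_apply, hl1]
    simp [zE]
  have hX : S.phi g dE = perm π l := by
    have e : back z g dE = S.lC l * (⟨d', Subgroup.mem_centralizer_singleton_iff.2
        (S.commute_oddPart hd' z).symm.eq⟩ : Subgroup.centralizer ({(z : G)} : Set G)) :=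
      Subtype.ext (by rw [back_apply]; exact hx)
    rw [phi, MonoidHom.comp_apply, e, map_mul, S.act_lC, S.act_eq_one.2 (S.oddPart_le hd'), mul_one]
  obtain ⟨hI, hA⟩ := hcomm dE (S.oddPart_le hd)
  have hfix : ∀ q, perm π l1 q ≠ q → perm π l q = q := by
    rw [← hT, ← hX]
    refine (R.cases_moved (by have := S.hn'; omega) hI hA).resolve_right fun hc => ?_
    obtain ⟨p, hp⟩ : ∃ p, S.phi g (zE z h) p ≠ p := by
      by_contra hc
      push Not at hc
      exact R.T_ne (Perm.ext hc)
    have h2 : (S.phi g dE ^ 2) p = p := by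
      rw [pow_two, Perm.mul_apply, hc p hp, hc _ (RelsQ.moved R.TT (Commute.refl _) hp).2, ← Perm.mul_apply, R.TT,
        Perm.one_apply]
    have hiter : ∀ i, (S.phi g dE ^ (2 * i)) p = p := by
      intro i
      induction i with
      | zero => simp
      | succ i ih => rw [Nat.mul_succ, pow_add, Perm.mul_apply, h2, ih]
    obtain ⟨i, hi⟩ := hN
    have e1 : (S.phi g dE ^ N) p = p := by
      rw [hX, ← map_pow, hlN, map_one, Perm.one_apply]
    rw [hi, pow_succ', Perm.mul_apply, hiter, hc p hp] at e1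
    exact hp e1
  have hll1 : Commute l l1 := by
    have e : Commute dE (zE z h) := Subtype.ext (S.commute_oddPart hd z).symm.eq
    have e' := e.map (back z g)
    refine Subtype.ext ?_
    show (l : G) * l1 = l1 * l
    have e1 : (back z g dE : G) * (back z g (zE z h) : G) = back z g (zE z h) * back z g dE :=
      congrArg Subtype.val e'.eq
    rw [back_apply, back_apply, hx, show g⁻¹ * (zE z h : G) * g = l1 by rw [hl1]; simp [zE],
      mul_assoc, (S.commute_oddPart hd' l1).symm.eq, ← mul_assoc, ← mul_assoc] at e1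
    exact mul_right_cancel e1
  refine S.noOdd l1 l hl12 hl11 hl1z hll1 hlodd hfix fun y hy hy2 => ?_
  obtain ⟨m, hm⟩ := hy2
  have hyz : Commute (g * y * g⁻¹) (z : G) := by
    have e := (show Commute (y : G) (l1 : G) from congrArg Subtype.val hy.eq).map (MulAut.conj g).toMonoidHom
    rw [hl1] at e
    simpa [mul_assoc] using e
  obtain ⟨y', hy'⟩ : ∃ y' : L, (y' : G) = g * y * g⁻¹ :=
    ⟨⟨_, S.two_mem hyz ⟨m, by rw [conj_pow, show (y : G) ^ 2 ^ m = 1 from congrArg Subtype.val hm, mul_one,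
      mul_inv_cancel]⟩⟩, rfl⟩
  have e := ((S.commute_oddPart hd y').map (MulAut.conj g⁻¹).toMonoidHom).symm
  rw [hy'] at e
  have e' : Commute (g⁻¹ * d * g) (y : G) := by simpa [mul_assoc] using e
  rw [hx] at e'
  refine Subtype.ext ?_
  show (l : G) * y = y * l
  have e1 := e'.eq
  rw [mul_assoc, (S.commute_oddPart hd' y).symm.eq, ← mul_assoc, ← mul_assoc] at e1
  exact mul_right_cancel e1

/-- A conjugation moving `z` inside its centraliser normalises the odd part. -/
theorem mem_normalizer (S : Setting π z) {g : G} (hg : Commute (g * z * g⁻¹) (z : G)) :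
    g ∈ Subgroup.normalizer (S.oddPart : Set G) := by
  have key : ∀ f : G, Commute (f * z * f⁻¹) (z : G) → ∀ d ∈ S.oddPart, f⁻¹ * d * f ∈ S.oddPart := by
    intro f hf d hd
    by_cases hc : Commute f (z : G)
    · simpa using S.oddPart_norm hc.inv_left hd
    · exact S.pair_norm ⟨hf, hc⟩ hd
  have hg' : Commute (g⁻¹ * z * g⁻¹⁻¹) (z : G) := by
    have e := hg.symm.map (MulAut.conj g⁻¹).toMonoidHom
    simpa [mul_assoc] using e
  refine Subgroup.mem_normalizer_iff.2 fun x => ⟨fun hx => by simpa using key _ hg' x hx, fun hx => ?_⟩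
  have e := key g hg _ hx
  simpa [mul_assoc] using e

theorem cent_le (S : Setting π z) {c : G} (hc : Commute c (z : G)) :
    c ∈ Subgroup.normalizer (S.oddPart : Set G) :=
  S.mem_normalizer (by rw [hc.eq, mul_inv_cancel_right])

/-- The involutions of the normaliser of the odd part are conjugate in it to `z`. -/
theorem conj_in_normalizer (S : Setting π z) {u : G} (hu : u ∈ Subgroup.normalizer (S.oddPart : Set G))
    (h2 : orderOf u = 2) : ∃ m ∈ Subgroup.normalizer (S.oddPart : Set G), u = m * z * m⁻¹ := by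
  haveI : Fact (Nat.Prime 2) := ⟨Nat.prime_two⟩
  set M := Subgroup.normalizer (S.oddPart : Set G) with hM
  obtain ⟨P⟩ : Nonempty (Sylow 2 (Subgroup.centralizer ({(z : G)} : Set G))) := inferInstance
  obtain ⟨Q, hQ⟩ := S.sylow_le P
  have hQM : (Q : Subgroup G) ≤ M := by
    rw [hQ]; rintro _ ⟨x, -, rfl⟩
    exact S.cent_le (Subgroup.mem_centralizer_singleton_iff.1 x.2)
  obtain ⟨k, hk⟩ := Invol.exists_mem_sylow_orderOf_two (Q.subtype hQM) (t := (⟨u, hu⟩ : M))
    ((Subgroup.orderOf_mk u hu).trans h2)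
  have hk' : (k : G) * u * (k : G)⁻¹ ∈ (Q : Subgroup G) := hk
  rw [hQ] at hk'
  obtain ⟨x, -, hx⟩ := hk'
  have hx' : (x : G) = k * u * (k : G)⁻¹ := hx
  have ho : orderOf x = 2 := by rw [← Subgroup.orderOf_coe, hx', Invol.orderOf_conj_eq, h2]
  obtain ⟨h, hh⟩ := S.conj_of_invol (S.act_even x) (by rw [← pow_two, ← ho, pow_orderOf_eq_one])
    (fun e => by rw [e, orderOf_one] at ho; omega)
  refine ⟨(k : G)⁻¹ * h, M.mul_mem (M.inv_mem k.2) (S.mem_normalizer ?_), ?_⟩
  · rw [← hh]; exact Subgroup.mem_centralizer_singleton_iff.1 x.2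
  · rw [show (k : G)⁻¹ * h * z * ((k : G)⁻¹ * h)⁻¹ = (k : G)⁻¹ * (h * z * h⁻¹) * k by group, ← hh, hx']
    group

/-- The normaliser of the odd part is the whole group or strongly embedded. -/
theorem strongly_embedded (S : Setting π z) (hne : Subgroup.normalizer (S.oddPart : Set G) ≠ ⊤) :
    Cfsg.IsStronglyEmbedded (Subgroup.normalizer (S.oddPart : Set G)) := by
  haveI : Fact (Nat.Prime 2) := ⟨Nat.prime_two⟩
  set M := Subgroup.normalizer (S.oddPart : Set G) with hM
  have hzM : (z : G) ∈ M := S.cent_le (Commute.refl _)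
  have ho : orderOf (z : G) = 2 := orderOf_eq_prime (by rw [pow_two]; exact S.tt) S.tne
  refine ⟨hne, even_iff_two_dvd.2 (ho ▸ Subgroup.orderOf_dvd_natCard M hzM), fun g hg => ?_⟩
  rw [← Nat.not_even_iff_odd, even_iff_two_dvd]
  intro h
  obtain ⟨w, hw⟩ := exists_prime_orderOf_dvd_card' 2 h
  have hu : orderOf (w : G) = 2 := (Subgroup.orderOf_coe w).trans hw
  obtain ⟨huM, v, hvM, hvu⟩ := Subgroup.mem_inf.1 w.2
  generalize (w : G) = u at hu huM hvu
  have hvu' : g * v * g⁻¹ = u := hvu
  obtain ⟨m, hm, hum⟩ := S.conj_in_normalizer huM hu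
  obtain ⟨m', hm', hvm⟩ := S.conj_in_normalizer hvM (by
    rw [← hu, ← hvu', Invol.orderOf_conj_eq])
  have hc : Commute (m⁻¹ * g * m') (z : G) := by
    refine mul_inv_eq_iff_eq_mul.1 ?_
    calc m⁻¹ * g * m' * z * (m⁻¹ * g * m')⁻¹ = m⁻¹ * (g * (m' * z * m'⁻¹) * g⁻¹) * m := by group
      _ = _ := by rw [← hvm, hvu', hum]; group
  refine hg ?_
  rw [show g = m * (m⁻¹ * g * m') * m'⁻¹ by group]
  exact M.mul_mem (M.mul_mem hm (S.cent_le hc)) (M.inv_mem hm')

end CfsgLib.StdCover.Setting
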