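import Cfsg.Agent.Lib.AltCover.Cover
import Cfsg.Agent.Lib.Known.AltAut
import Mathlib.GroupTheory.Perm.Cycle.Type

/-!
# A quaternion group of permutations on at most fifteen points

`RelsQ` records the relations of `SL(2,3)` between permutations `I`, `A` and the central `T = I ^ 2`. On at
most fifteen points, `T` moves exactly the eight points of one regular orbit of the quaternion group, and a
permutation commuting with `I` and `A` is `1` or `T` on them.
-/

set_option autoImplicit false

namespace CfsgLib.StdCover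

open Equiv Equiv.Perm

variable {n : ℕ}

/-- Two elements of order dividing three commuting with `r`, whose product is a double transposition and which
generate a copy of the alternating group of degree four. -/
def WitP (r : Perm (Fin n)) : Prop :=
  ∃ a b : Perm (Fin n), a ^ 3 = 1 ∧ b ^ 3 = 1 ∧ Commute a r ∧ Commute b r ∧ (a * b).cycleType = AltCover.R 2 ∧
    a * (a * b) * a⁻¹ = a * b * (a⁻¹ * (a * b) * a)

theorem witP_conj (c : Perm (Fin n)) {r : Perm (Fin n)} (h : WitP r) : WitP (c * r * c⁻¹) := by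
  obtain ⟨a, b, ha, hb, har, hbr, hab, hA⟩ := h
  have hm : ∀ u v : Perm (Fin n), c * (u * v) * c⁻¹ = c * u * c⁻¹ * (c * v * c⁻¹) := fun u v => by group
  refine ⟨c * a * c⁻¹, c * b * c⁻¹, ?_, ?_, ?_, ?_, ?_, ?_⟩
  · rw [conj_pow, ha, mul_one, mul_inv_cancel]
  · rw [conj_pow, hb, mul_one, mul_inv_cancel]
  · show c * a * c⁻¹ * (c * r * c⁻¹) = c * r * c⁻¹ * (c * a * c⁻¹)
    rw [← hm, ← hm, har.eq]
  · show c * b * c⁻¹ * (c * r * c⁻¹) = c * r * c⁻¹ * (c * b * c⁻¹)
    rw [← hm, ← hm, hbr.eq]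
  · rw [← hm, cycleType_conj, hab]
  · simpa [mul_assoc] using congrArg (fun w => c * w * c⁻¹) hA

/-- It is enough to check one permutation of each cycle type. -/
theorem witP_of_reps {reps : List (Perm (Fin n))} (hr : ∀ r ∈ reps, WitP r)
    (hex : ∀ m, 2 * m ≤ n → ∃ r ∈ reps, r.cycleType = AltCover.R m) {r : Perm (Fin n)} (h : r * r = 1) :
    WitP r := by
  have key : ∀ m, r.cycleType = AltCover.R m → WitP r := fun m hm => by
    have hsum := sum_cycleType r
    rw [hm, Multiset.sum_replicate, smul_eq_mul] at hsum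
    have := (Finset.card_le_univ r.support).trans (le_of_eq (Fintype.card_fin n))
    obtain ⟨r₀, h0, hc0⟩ := hex m (by omega)
    obtain ⟨c, rfl⟩ := isConj_iff.1 (isConj_iff_cycleType_eq.2 (hc0.trans hm.symm))
    exact witP_conj c (hr r₀ h0)
  by_cases h1 : r = 1
  · exact key 0 (by rw [h1]; simp)
  have ho : orderOf r = 2 := orderOf_eq_prime (by rw [pow_two]; exact h) h1
  obtain ⟨m, hm⟩ := cycleType_prime_order (σ := r) (by rw [ho]; exact Nat.prime_two)
  exact key (m + 1) (by rw [hm, ho])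

/-- The relations of `SL(2,3)`. -/
structure RelsQ (I J A T : Perm (Fin n)) : Prop where
  II : I * I = T
  JJ : J * J = T
  TT : T * T = 1
  T_ne : T ≠ 1
  JI : J * I = T * (I * J)
  A3 : A ^ 3 = 1
  hJ : J = A⁻¹ * I * A
  hA : A * I * A⁻¹ = I * J ∨ A * I * A⁻¹ = T * (I * J)

namespace RelsQ

variable {I J A T : Perm (Fin n)}

theorem commTI (h : RelsQ I J A T) : Commute T I := by
  rw [← h.II]; exact (Commute.refl I).mul_left (Commute.refl I)

theorem commTJ (h : RelsQ I J A T) : Commute T J := by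
  rw [← h.JJ]; exact (Commute.refl J).mul_left (Commute.refl J)

theorem IJsq (h : RelsQ I J A T) : I * J * (I * J) = T := by
  rw [show I * J * (I * J) = I * (J * I) * J by group, h.JI,
    show I * (T * (I * J)) * J = I * T * I * (J * J) by group, ← h.commTI.eq,
    show T * I * I * (J * J) = T * (I * I) * (J * J) by group, h.II, h.JJ, h.TT, one_mul]

theorem AJ (h : RelsQ I J A T) : A * J * A⁻¹ = I := by rw [h.hJ]; group

theorem commTA (h : RelsQ I J A T) : Commute A T := by
  have e : A * T * A⁻¹ = T := by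
    have e1 : A * T * A⁻¹ = A * J * A⁻¹ * (A * J * A⁻¹) := by rw [← h.JJ]; group
    rw [e1, h.AJ, h.II]
  exact mul_inv_eq_iff_eq_mul.1 e

/-- A root of `T` moves each point moved by `T` out of its pair. -/
theorem free {y : Perm (Fin n)} (hy : y * y = T) (hT : T * T = 1) {q : Fin n} (hq : T q ≠ q) :
    y q ≠ q ∧ y q ≠ T q := by
  refine ⟨fun e => hq ?_, fun e => hq ?_⟩
  · rw [← hy, Perm.mul_apply, e, e]
  · have e1 : y (y q) = T q := by rw [← Perm.mul_apply, hy]
    rw [e] at e1
    have e2 : y (T q) = T (y q) := by rw [← hy]; rfl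
    rw [e2, e, ← Perm.mul_apply, hT, Perm.one_apply] at e1
    exact e1.symm

/-- The orbit of a point. -/
def orb (I J T : Perm (Fin n)) (p : Fin n) : Finset (Fin n) :=
  {p, T p, I p, T (I p), J p, T (J p), I (J p), T (I (J p))}

theorem moved (hT : T * T = 1) {y : Perm (Fin n)} (hc : Commute T y) {q : Fin n} (hq : T q ≠ q) :
    T (y q) ≠ y q ∧ T (T q) ≠ T q := by
  refine ⟨fun e => hq (y.injective ?_), fun e => hq ?_⟩
  · rw [← Perm.mul_apply, ← hc.eq]; exact e
  · rw [← Perm.mul_apply, hT, Perm.one_apply] at e; exact e.symm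

theorem apply_pq (h : RelsQ I J A T) (q : Fin n) :
    I (I q) = T q ∧ J (J q) = T q ∧ T (T q) = q ∧ J (I q) = T (I (J q)) ∧ I (T q) = T (I q) ∧ J (T q) = T (J q) :=
  ⟨DFunLike.congr_fun h.II q, DFunLike.congr_fun h.JJ q, DFunLike.congr_fun h.TT q, DFunLike.congr_fun h.JI q,
    (DFunLike.congr_fun h.commTI.eq q).symm, (DFunLike.congr_fun h.commTJ.eq q).symm⟩

theorem moved_all (h : RelsQ I J A T) {p : Fin n} (hp : T p ≠ p) :
    ∀ q ∈ orb I J T p, T q ≠ q := by
  have hT : ∀ q, T q ≠ q → T (T q) ≠ T q := fun q hq => (moved h.TT h.commTI hq).2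
  have hI : ∀ q, T q ≠ q → T (I q) ≠ I q := fun q hq => (moved h.TT h.commTI hq).1
  have hJ' : ∀ q, T q ≠ q → T (J q) ≠ J q := fun q hq => (moved h.TT h.commTJ hq).1
  intro q hq
  simp only [orb, Finset.mem_insert, Finset.mem_singleton] at hq
  rcases hq with rfl | rfl | rfl | rfl | rfl | rfl | rfl | rfl
  exacts [hp, hT _ hp, hI _ hp, hT _ (hI _ hp), hJ' _ hp, hT _ (hJ' _ hp), hI _ (hJ' _ hp),
    hT _ (hI _ (hJ' _ hp))]

theorem card_orb (h : RelsQ I J A T) {p : Fin n} (hp : T p ≠ p) : (orb I J T p).card = 8 := by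
  obtain ⟨-, -, hTT, -, -, -⟩ := h.apply_pq p
  have fI := free h.II h.TT hp
  have fJ := free h.JJ h.TT hp
  have fIJ := free h.IJsq h.TT hp
  rw [Perm.mul_apply] at fIJ
  have mJ : T (J p) ≠ J p := (moved h.TT h.commTJ hp).1
  have gI := free h.II h.TT mJ
  -- `I p` against `J p`
  have mI : T (I p) ≠ I p := (moved h.TT h.commTI hp).1
  have dIJ : I p ≠ J p ∧ I p ≠ T (J p) := by
    constructor
    · intro e
      have e1 := congrArg I e
      rw [(h.apply_pq p).1] at e1
      exact fIJ.2 e1.symm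
    · intro e
      have e1 := congrArg I e
      rw [(h.apply_pq p).1, (h.apply_pq (J p)).2.2.2.2.1] at e1
      have e2 := congrArg T e1
      rw [(h.apply_pq p).2.2.1, (h.apply_pq (I (J p))).2.2.1] at e2
      exact fIJ.1 e2.symm
  have dI2 : I (J p) ≠ I p ∧ I (J p) ≠ T (I p) := by
    refine ⟨fun e => fJ.1 (I.injective e), fun e => fJ.2 (I.injective ?_)⟩
    rw [e, (h.apply_pq p).2.2.2.2.1]
  have sy : ∀ u v, v ≠ u → v ≠ T u →
      (u ≠ v ∧ u ≠ T v ∧ T u ≠ v ∧ T u ≠ T v) := fun u v h1 h2 =>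
    ⟨h1.symm, fun e => h2 (by rw [e, (h.apply_pq v).2.2.1]), fun e => h2 e.symm, fun e => h1.symm (T.injective e)⟩
  obtain ⟨a1, a2, a3, a4⟩ := sy _ _ fI.1 fI.2
  obtain ⟨b1, b2, b3, b4⟩ := sy _ _ fJ.1 fJ.2
  obtain ⟨c1, c2, c3, c4⟩ := sy _ _ fIJ.1 fIJ.2
  obtain ⟨d1, d2, d3, d4⟩ := sy _ _ dI2.1 dI2.2
  obtain ⟨e1, e2, e3, e4⟩ := sy _ _ gI.1 gI.2
  obtain ⟨g1, g2, g3, g4⟩ := sy _ _ dIJ.1 dIJ.2
  have m1 : T (I (J p)) ≠ I (J p) := (moved h.TT h.commTI mJ).1
  rw [orb, Finset.card_insert_of_notMem, Finset.card_insert_of_notMem, Finset.card_insert_of_notMem,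
    Finset.card_insert_of_notMem, Finset.card_insert_of_notMem, Finset.card_insert_of_notMem,
    Finset.card_insert_of_notMem, Finset.card_singleton]
  all_goals simp only [Finset.mem_insert, Finset.mem_singleton, not_or]
  all_goals repeat' constructor
  all_goals first
    | assumption
    | exact hp.symm | exact mI.symm | exact mJ.symm | exact m1.symm
    | exact g1.symm | exact g2.symm | exact g3.symm | exact g4.symm

theorem orb_closed (h : RelsQ I J A T) (p : Fin n) {q : Fin n} (hq : q ∈ orb I J T p) :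
    I q ∈ orb I J T p ∧ J q ∈ orb I J T p ∧ T q ∈ orb I J T p := by
  simp only [orb, Finset.mem_insert, Finset.mem_singleton] at hq ⊢
  have a1 := fun q => (h.apply_pq q).1
  have a2 := fun q => (h.apply_pq q).2.1
  have a3 := fun q => (h.apply_pq q).2.2.1
  have a4 := fun q => (h.apply_pq q).2.2.2.1
  have a5 := fun q => (h.apply_pq q).2.2.2.2.1
  have a6 := fun q => (h.apply_pq q).2.2.2.2.2
  rcases hq with rfl | rfl | rfl | rfl | rfl | rfl | rfl | rfl <;>
    simp only [a1, a2, a3, a4, a5, a6, eq_self_iff_true, true_or, or_true, and_self]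

/-- On at most fifteen points the orbit is the set of moved points. -/
theorem mem_orb (h : RelsQ I J A T) (hn : n ≤ 15) {p q : Fin n} (hp : T p ≠ p) (hq : T q ≠ q) :
    q ∈ orb I J T p := by
  by_contra hno
  have hd : Disjoint (orb I J T p) (orb I J T q) := by
    refine Finset.disjoint_left.2 fun x hx hxq => hno ?_
    have hI : ∀ x, I x ∈ orb I J T p → x ∈ orb I J T p := fun x hx => by
      have h1 := (h.orb_closed p (h.orb_closed p hx).1).2.2
      rwa [(h.apply_pq x).1, (h.apply_pq x).2.2.1] at h1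
    have hJ : ∀ x, J x ∈ orb I J T p → x ∈ orb I J T p := fun x hx => by
      have h1 := (h.orb_closed p (h.orb_closed p hx).2.1).2.2
      rwa [(h.apply_pq x).2.1, (h.apply_pq x).2.2.1] at h1
    have hT : ∀ x, T x ∈ orb I J T p → x ∈ orb I J T p := fun x hx => by
      have h1 := (h.orb_closed p hx).2.2
      rwa [(h.apply_pq x).2.2.1] at h1
    simp only [orb, Finset.mem_insert, Finset.mem_singleton] at hxq
    rcases hxq with rfl | rfl | rfl | rfl | rfl | rfl | rfl | rfl
    exacts [hx, hT _ hx, hI _ hx, hI _ (hT _ hx), hJ _ hx, hJ _ (hT _ hx), hJ _ (hI _ hx), hJ _ (hI _ (hT _ hx))]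
  have hc := Finset.card_le_univ (orb I J T p ∪ orb I J T q)
  rw [Finset.card_union_of_disjoint hd, h.card_orb hp, h.card_orb hq, Fintype.card_fin] at hc
  omega

theorem card_moved (h : RelsQ I J A T) (hn : n ≤ 15) : (Finset.univ.filter fun q => T q ≠ q).card = 8 := by
  obtain ⟨p, hp⟩ : ∃ p, T p ≠ p := by
    by_contra hc
    push Not at hc
    exact h.T_ne (Perm.ext hc)
  rw [← h.card_orb hp]
  congr 1
  ext q
  simp only [Finset.mem_filter, Finset.mem_univ, true_and]
  exact ⟨h.mem_orb hn hp, h.moved_all hp q⟩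

/-- `A` fixes a moved point. -/
theorem exists_fixed (h : RelsQ I J A T) (hn : n ≤ 15) : ∃ p, T p ≠ p ∧ A p = p := by
  have hmem : ∀ x : Fin n, T (A x) ≠ A x ↔ T x ≠ x := fun x => by
    rw [← Perm.mul_apply, ← h.commTA.eq, Perm.mul_apply]
    exact not_congr A.injective.eq_iff
  let σ : Perm {x : Fin n // T x ≠ x} := A.subtypePerm hmem
  have hσ : σ ^ (3 ^ 1) = 1 := by
    rw [pow_one]
    ext ⟨x, hx⟩
    simp only [σ, Perm.subtypePerm_pow, Perm.subtypePerm_apply, h.A3, Perm.one_apply]
  haveI : Fact (Nat.Prime 3) := ⟨Nat.prime_three⟩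
  obtain ⟨⟨x, hx⟩, hfix⟩ := Perm.exists_fixed_point_of_prime (p := 3) (n := 1) (by
    rw [Fintype.card_subtype, h.card_moved hn]; omega) hσ
  exact ⟨x, hx, congrArg Subtype.val hfix⟩

/-- A permutation commuting with the generators is `1` or `T` on the moved points. -/
theorem cases_moved (h : RelsQ I J A T) (hn : n ≤ 15) {X : Perm (Fin n)} (hI : Commute X I) (hA : Commute X A) :
    (∀ q, T q ≠ q → X q = q) ∨ (∀ q, T q ≠ q → X q = T q) := by
  obtain ⟨p, hp, hAp⟩ := h.exists_fixed hn
  have hJc : Commute X J := by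
    rw [h.hJ]; exact (hA.inv_right.mul_right hI).mul_right hA
  have hTc : Commute X T := by rw [← h.II]; exact hI.mul_right hI
  have cI : ∀ q, X (I q) = I (X q) := fun q => DFunLike.congr_fun hI.eq q
  have cJ : ∀ q, X (J q) = J (X q) := fun q => DFunLike.congr_fun hJc.eq q
  have cT : ∀ q, X (T q) = T (X q) := fun q => DFunLike.congr_fun hTc.eq q
  have hXp : X p ∈ orb I J T p := h.mem_orb hn hp ((moved h.TT hTc.symm hp).1)
  have hfix : A (X p) = X p := by rw [← Perm.mul_apply, ← hA.eq, Perm.mul_apply, hAp]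
  -- the elements `A` fixes in the orbit
  have aT : ∀ q, A (T q) = T (A q) := fun q => DFunLike.congr_fun h.commTA.eq q
  have aJ : A (J p) = I p := by
    have e := DFunLike.congr_fun h.AJ p
    simp only [Perm.mul_apply] at e
    rwa [show A⁻¹ p = p from A.injective (by rw [hAp]; simp)] at e
  have fI := free h.II h.TT hp
  have fJ := free h.JJ h.TT hp
  have aI : A (I p) = I (J p) ∨ A (I p) = T (I (J p)) := by
    rcases h.hA with e | e <;>
    · have e1 := DFunLike.congr_fun e p
      simp only [Perm.mul_apply] at e1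
      rw [show A⁻¹ p = p from A.injective (by rw [hAp]; simp)] at e1
      simp [e1]
  have aIJ : A (I (J p)) = I (J (I p)) ∨ A (I (J p)) = T (I (J (I p))) := by
    rcases h.hA with e | e <;>
    · have e1 := DFunLike.congr_fun e (A (J p))
      simp only [Perm.mul_apply] at e1
      rw [show A⁻¹ (A (J p)) = J p from A.injective (by simp), aJ] at e1
      simp [e1]
  have n1 : ∀ u v : Fin n, u ≠ v → T u ≠ T v := fun u v => mt (T.injective ·)
  have hJI : I (J (I p)) = J p := by
    rw [(h.apply_pq p).2.2.2.1, (h.apply_pq (I (J p))).2.2.2.2.1, (h.apply_pq (J p)).1,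
      (h.apply_pq (J p)).2.2.1]
  have mJ : T (J p) ≠ J p := (moved h.TT h.commTJ hp).1
  have gI := free h.II h.TT mJ
  have dI2 : I (J p) ≠ I p ∧ I (J p) ≠ T (I p) := by
    refine ⟨fun e => fJ.1 (I.injective e), fun e => fJ.2 (I.injective ?_)⟩
    rw [e, (h.apply_pq p).2.2.2.2.1]
  have dJ : I p ≠ J p := by
    intro e
    have e1 := congrArg I e
    rw [(h.apply_pq p).1] at e1
    exact (free h.IJsq h.TT hp).2 e1.symm
  rw [hJI] at aIJ
  have nI : A (I p) ≠ I p := by
    rcases aI with e | e <;> rw [e]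
    · exact dI2.1
    · exact fun e' => dI2.2 (by rw [← e', (h.apply_pq (I (J p))).2.2.1])
  have nJ : A (J p) ≠ J p := by rw [aJ]; exact dJ
  have nIJ : A (I (J p)) ≠ I (J p) := by
    rcases aIJ with e | e <;> rw [e]
    · exact gI.1.symm
    · exact gI.2.symm
  have nT : ∀ u, A u ≠ u → A (T u) ≠ T u := fun u hu => by rw [aT]; exact n1 _ _ hu
  have hcases : X p = p ∨ X p = T p := by
    simp only [orb, Finset.mem_insert, Finset.mem_singleton] at hXp
    rcases hXp with e | e | e | e | e | e | e | e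
    · exact .inl e
    · exact .inr e
    all_goals exfalso; rw [e] at hfix
    exacts [nI hfix, nT _ nI hfix, nJ hfix, nT _ nJ hfix, nIJ hfix, nT _ nIJ hfix]
  rcases hcases with e | e
  · left
    intro q hq
    have hq' := h.mem_orb hn hp hq
    simp only [orb, Finset.mem_insert, Finset.mem_singleton] at hq'
    rcases hq' with rfl | rfl | rfl | rfl | rfl | rfl | rfl | rfl <;> simp only [cT, cI, cJ, e]
  · right
    intro q hq
    have hq' := h.mem_orb hn hp hq
    simp only [orb, Finset.mem_insert, Finset.mem_singleton] at hq'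
    have a5 := fun q => (h.apply_pq q).2.2.2.2.1
    have a6 := fun q => (h.apply_pq q).2.2.2.2.2
    rcases hq' with rfl | rfl | rfl | rfl | rfl | rfl | rfl | rfl <;> simp only [cT, cI, cJ, e, a5, a6]

end RelsQ

end CfsgLib.StdCover
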