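import Cfsg.Agent.Lib.StdCover.Normalizer
import Cfsg.Prelude.Def_SporadicB

/-!
# The centraliser of `z` modulo the odd part
-/

set_option autoImplicit false

namespace CfsgLib.StdCover

open Subgroup

theorem nonsplit_congr {A B K : Type*} [Group A] [Group B] [Group K] (e : A ≃* B)
    (h : Cfsg.IsNonsplitDoubleCover A K) : Cfsg.IsNonsplitDoubleCover B K := by
  obtain ⟨h2, ⟨q⟩, hns⟩ := h
  have hmap : (center A).map (e : A →* B) = center B := by
    ext b
    simp only [Subgroup.mem_map, mem_center_iff]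
    constructor
    · rintro ⟨a, ha, rfl⟩ g
      show g * e a = e a * g
      rw [← e.apply_symm_apply g, ← map_mul, ha, map_mul]
    · exact fun hb => ⟨e.symm b, fun g => e.injective (by simp [hb]), e.apply_symm_apply b⟩
  refine ⟨?_, ⟨(QuotientGroup.congr _ _ e hmap).symm.trans q⟩, fun L hL => hns (L.comap (e : A →* B)) ?_⟩
  · rw [← hmap, card_map_of_injective (f := (e : A →* B)) e.injective, h2]
  · refine isComplement'_of_disjoint_and_mul_eq_univ (disjoint_iff.2 ?_) ?_
    · rw [eq_bot_iff_forall]
      intro a ⟨ha, haL⟩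
      have h1 : e a ∈ center B ⊓ L := ⟨hmap ▸ mem_map_of_mem (e : A →* B) ha, haL⟩
      rw [disjoint_iff.1 hL.disjoint, mem_bot] at h1
      exact e.injective (h1.trans (map_one e).symm)
    · refine Set.eq_univ_of_forall fun a => ?_
      obtain ⟨⟨⟨c, hc⟩, ⟨l, hl⟩⟩, hcl⟩ := hL.2 (e a)
      refine ⟨e.symm c, ?_, e.symm l, ?_, e.injective (by simpa using hcl)⟩
      · have hc' : c ∈ (center A).map (e : A →* B) := hmap.symm ▸ hc
        obtain ⟨a', ha', rfl⟩ := hc'
        simpa using ha'
      · show e (e.symm l) ∈ L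
        simpa using hl

namespace Setting

variable {G : Type*} [Group G] [Finite G] [IsSimpleGroup G] {n : ℕ} {L : Subgroup G}
  {π : L →* alternatingGroup (Fin n)} {z : L}

/-- With trivial odd part the centraliser of `z` is `L`. -/
theorem cent_eq (S : Setting π z) (hD : S.oddPart = ⊥) : centralizer ({(z : G)} : Set G) = L := by
  refine le_antisymm (fun x hx => ?_) fun x hx => mem_centralizer_singleton_iff.2 (S.commute_z ⟨x, hx⟩)
  obtain ⟨l, d, hd, rfl⟩ := S.decomp (mem_centralizer_singleton_iff.1 hx)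
  rw [hD, mem_bot] at hd
  rw [hd, mul_one]
  exact l.2

theorem z_mem (S : Setting π z) : (z : G) ∈ normalizer (S.oddPart : Set G) := S.cent_le (Commute.refl _)

/-- `L` inside the normaliser of the odd part, modulo the odd part. -/
noncomputable def toQuot (S : Setting π z) :
    L →* (normalizer (S.oddPart : Set G) : Subgroup G) ⧸ S.oddPart.subgroupOf (normalizer (S.oddPart : Set G)) :=
  (QuotientGroup.mk' _).comp (inclusion fun x hx => S.cent_le (S.commute_z ⟨x, hx⟩))

theorem toQuot_z (S : Setting π z) : S.toQuot z = QuotientGroup.mk ⟨(z : G), S.z_mem⟩ := rfl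

theorem toQuot_injective (S : Setting π z) : Function.Injective S.toQuot := by
  refine (injective_iff_map_eq_one _).2 fun l hl => S.meet ?_
  exact (mem_subgroupOf.1 ((QuotientGroup.eq_one_iff _).1 hl) :)

/-- Modulo the odd part the centraliser of `z` is the image of `L`. -/
theorem cent_quot (S : Setting π z) :
    centralizer ({S.toQuot z} : Set ((normalizer (S.oddPart : Set G) : Subgroup G) ⧸
      S.oddPart.subgroupOf (normalizer (S.oddPart : Set G)))) = S.toQuot.range := by
  refine le_antisymm (fun q hq => ?_) ?_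
  · obtain ⟨⟨x, hxM⟩, rfl⟩ := QuotientGroup.mk_surjective q
    have hq' := mem_centralizer_singleton_iff.1 hq
    rw [S.toQuot_z, ← QuotientGroup.mk_mul, ← QuotientGroup.mk_mul, QuotientGroup.eq, mem_subgroupOf] at hq'
    have hd : (x * z)⁻¹ * (z * x) ∈ S.oddPart := hq'
    obtain ⟨d, hdD, hd'⟩ : ∃ d ∈ S.oddPart, x⁻¹ * z * x = z * d := ⟨_, hd, by group⟩
    obtain ⟨j, hj⟩ := (S.mem_oddPart.1 hdD).2
    have hdd : d * d = 1 := by
      have e : (z : G) * d * (z * d) = 1 := by
        rw [← hd', show x⁻¹ * (z : G) * x * (x⁻¹ * z * x) = x⁻¹ * ((z : G) * z) * x by group, S.tt]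
        group
      have hzd : d * (z : G) = z * d := (S.commute_oddPart hdD z).symm.eq
      rw [mul_assoc, ← mul_assoc d, hzd, mul_assoc (z : G) d, ← mul_assoc, S.tt, one_mul] at e
      exact e
    have hd1 : d = 1 := by
      have e := pow_orderOf_eq_one d
      rwa [hj, pow_succ, pow_mul, pow_two, hdd, one_pow, one_mul] at e
    rw [hd1, mul_one] at hd'
    have hxz : Commute x (z : G) := by
      have e : (z : G) * x = x * z := by
        calc (z : G) * x = x * (x⁻¹ * z * x) := by group
          _ = _ := by rw [hd']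
      exact e.symm
    obtain ⟨l, d', hd'D, rfl⟩ := S.decomp hxz
    refine ⟨l, QuotientGroup.eq.2 (mem_subgroupOf.2 ?_)⟩
    show (l : G)⁻¹ * (l * d') ∈ S.oddPart
    rwa [inv_mul_cancel_left]
  · rintro _ ⟨l, rfl⟩
    exact mem_centralizer_singleton_iff.2 ((show Commute l z from S.cov.central l).map S.toQuot).eq

theorem cover_quot (S : Setting π z) {K : Type*} [Group K] (h : Cfsg.IsNonsplitDoubleCover L K) :
    Cfsg.IsNonsplitDoubleCover (centralizer ({S.toQuot z} : Set ((normalizer (S.oddPart : Set G) : Subgroup G) ⧸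
      S.oddPart.subgroupOf (normalizer (S.oddPart : Set G))))) K :=
  nonsplit_congr ((MonoidHom.ofInjective S.toQuot_injective).trans (MulEquiv.subgroupCongr S.cent_quot.symm)) h

theorem card_cent_quot (S : Setting π z) :
    Nat.card (centralizer ({S.toQuot z} : Set ((normalizer (S.oddPart : Set G) : Subgroup G) ⧸
      S.oddPart.subgroupOf (normalizer (S.oddPart : Set G))))) = Nat.card L := by
  rw [S.cent_quot, ← Nat.card_congr (MonoidHom.ofInjective S.toQuot_injective).toEquiv]

/-- The centraliser of `z` does not cover the quotient modulo its odd core. -/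
theorem quot_not_central (S : Setting π z) :
    centralizer ({S.toQuot z} : Set ((normalizer (S.oddPart : Set G) : Subgroup G) ⧸
      S.oddPart.subgroupOf (normalizer (S.oddPart : Set G)))) ⊔ Cfsg.oddCore _ ≠ ⊤ := by
  intro htop
  obtain ⟨g, hg⟩ := S.exists_pair
  obtain ⟨l, hl, hl2, hl1, hlz⟩ := S.pair_mem hg
  have hgM : g ∈ normalizer (S.oddPart : Set G) := S.mem_normalizer hg.1
  set O := Cfsg.oddCore ((normalizer (S.oddPart : Set G) : Subgroup G) ⧸
      S.oddPart.subgroupOf (normalizer (S.oddPart : Set G))) with hO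
  haveI : O.Normal := inferInstance
  have hgq : S.toQuot l = QuotientGroup.mk ⟨g, hgM⟩ * S.toQuot z * (QuotientGroup.mk ⟨g, hgM⟩)⁻¹ := by
    show QuotientGroup.mk _ = _
    rw [S.toQuot_z, ← QuotientGroup.mk_inv, ← QuotientGroup.mk_mul, ← QuotientGroup.mk_mul]
    exact congrArg _ (Subtype.ext hl)
  have hzcent : Commute (QuotientGroup.mk' O (S.toQuot z)) (QuotientGroup.mk' O (QuotientGroup.mk ⟨g, hgM⟩)) := by
    have hmem : centralizer ({S.toQuot z} : Set _) ⊔ O ≤
        (centralizer ({QuotientGroup.mk' O (S.toQuot z)} : Set _)).comap (QuotientGroup.mk' O) := by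
      refine sup_le (fun c hc => ?_) fun o ho => ?_
      · rw [Subgroup.mem_comap, mem_centralizer_singleton_iff, ← map_mul, ← map_mul, mem_centralizer_singleton_iff.1 hc]
      · rw [Subgroup.mem_comap, show QuotientGroup.mk' O o = 1 from (QuotientGroup.eq_one_iff o).2 ho]
        exact one_mem _
    exact (mem_centralizer_singleton_iff.1
      (Subgroup.mem_comap.1 (hmem (htop ▸ Subgroup.mem_top (QuotientGroup.mk (⟨g, hgM⟩ : (normalizer (S.oddPart : Set G) : Subgroup G))))))).symm
  have hlO : S.toQuot (l * z) ∈ O := by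
    refine (QuotientGroup.eq_one_iff _).1 ?_
    show QuotientGroup.mk' O (S.toQuot (l * z)) = 1
    rw [map_mul, map_mul, hgq, map_mul, map_mul, map_inv, ← hzcent.eq, mul_inv_cancel_right, ← map_mul, ← map_mul,
      S.cov.sq_z, map_one, map_one]
  have ho : orderOf (S.toQuot (l * z)) = 2 := by
    refine orderOf_eq_prime (hp := ⟨Nat.prime_two⟩) ?_ fun e => hlz ?_
    · rw [← map_pow, (show Commute l z from S.cov.central l).mul_pow, pow_two, pow_two, hl2, S.cov.sq_z, one_mul,
        map_one]
    · have e' : l * z = 1 := S.toQuot_injective (e.trans (map_one _).symm)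
      rw [eq_inv_of_mul_eq_one_left e', inv_eq_of_mul_eq_one_left S.cov.sq_z]
  exact Nat.not_even_iff_odd.2 (Cores.odd_card_oddCore (G := (normalizer (S.oddPart : Set G) : Subgroup G) ⧸
      S.oddPart.subgroupOf (normalizer (S.oddPart : Set G)))) (even_iff_two_dvd.2
    (ho ▸ Subgroup.orderOf_dvd_natCard O hlO))

/-- The normaliser of a non-trivial odd part is proper. -/
theorem normalizer_ne_top (S : Setting π z) (hD : S.oddPart ≠ ⊥) : normalizer (S.oddPart : Set G) ≠ ⊤ := by
  intro h
  haveI : S.oddPart.Normal := normalizer_eq_top_iff.1 h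
  rcases (inferInstance : S.oddPart.Normal).eq_bot_or_eq_top with e | e
  · exact hD e
  · have hz : (z : G) ∈ S.oddPart := e ▸ Subgroup.mem_top _
    exact S.cov.zne (S.meet hz)

end Setting

end CfsgLib.StdCover
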