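import Cfsg.Agent.Lib.StdCover.Perms
import Cfsg.Agent.Lib.CoverType.OneClass
import Cfsg.Prelude.Def_Local

/-!
# A standard subgroup that is a perfect double cover of an alternating group

`Setting` is what is used of a standard subgroup `L`, with projection `π` and central involution `z`. The
conjugation action of the centraliser of `z` on `L` gives a map `psi` to the symmetric group with kernel the
centraliser of `L`.
-/

set_option autoImplicit false

namespace CfsgLib.StdCover

open Equiv Equiv.Perm AltCover
open scoped commutatorElement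

variable {G : Type*} [Group G] {n : ℕ} {L : Subgroup G}

/-- The underlying permutation of an element of `L`. -/
def perm (π : L →* alternatingGroup (Fin n)) : L →* Perm (Fin n) := (alternatingGroup (Fin n)).subtype.comp π

theorem perm_apply (π : L →* alternatingGroup (Fin n)) (l : L) : perm π l = (π l : Perm (Fin n)) := rfl

/-- An odd element of the centraliser of a non-central involution `x` that fixes the points moved by `x` and
commutes with its two-elements is trivial. -/
def NoOdd (π : L →* alternatingGroup (Fin n)) (z : L) : Prop :=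
  ∀ x h : L, x * x = 1 → x ≠ 1 → x ≠ z → Commute h x → Odd (orderOf h) →
    (∀ p, perm π x p ≠ p → perm π h p = p) →
    (∀ y : L, Commute y x → (∃ m, y ^ 2 ^ m = 1) → Commute h y) → h = 1

/-- A non-split double cover of an alternating group has a perfect cover projection. -/
theorem exists_cover [Finite G] (hn : 5 ≤ n) (hcov : Cfsg.IsNonsplitDoubleCover L (alternatingGroup (Fin n))) :
    ∃ (π : L →* alternatingGroup (Fin n)) (z : L), Cover π z := by
  obtain ⟨h2, ⟨e⟩, hns⟩ := hcov
  haveI : Fact (Nat.Prime 2) := ⟨Nat.prime_two⟩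
  obtain ⟨⟨z, hz⟩, hord⟩ := exists_prime_orderOf_dvd_card' (G := Subgroup.center L) 2 (by rw [h2])
  rw [Subgroup.orderOf_mk] at hord
  have hcases : ∀ x ∈ Subgroup.center L, x = 1 ∨ x = z := by
    intro x hx
    have hz' : Subgroup.zpowers z = Subgroup.center L :=
      Subgroup.eq_of_le_of_card_ge (Subgroup.zpowers_le.2 hz) (by rw [h2, Nat.card_zpowers, hord])
    rw [← hz'] at hx
    obtain ⟨m, rfl⟩ := Subgroup.mem_zpowers_iff.1 hx
    rw [← zpow_mod_orderOf, hord]
    rcases Int.emod_two_eq_zero_or_one m with h0 | h0 <;> simp [h0]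
  have hz1 : z ≠ 1 := fun h => by rw [h, orderOf_one] at hord; omega
  let π : L →* alternatingGroup (Fin n) := e.toMonoidHom.comp (QuotientGroup.mk' (Subgroup.center L))
  have hker : ∀ x, π x = 1 ↔ x ∈ Subgroup.center L := fun x =>
    (e.map_eq_one_iff).trans (QuotientGroup.eq_one_iff x)
  have hs : Function.Surjective π := e.surjective.comp (QuotientGroup.mk'_surjective _)
  refine ⟨π, z, hs, fun x => ?_, hz1, fun x => Subgroup.mem_center_iff.1 hz x, ?_⟩
  · rw [hker]
    exact ⟨hcases x, by rintro (rfl | rfl); exacts [one_mem _, hz]⟩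
  set D := commutator L with hD
  have hsurj : ∀ a, ∃ d ∈ D, π d = a := by
    have h3 : D.map π = ⊤ := by
      rw [hD, commutator_def, Subgroup.map_commutator, Subgroup.map_top_of_surjective π hs,
        ← commutator_def, commutator_alternatingGroup_eq_top (by rw [Nat.card_fin]; exact hn)]
    intro a
    obtain ⟨d, hd, rfl⟩ := (h3 ▸ Subgroup.mem_top a : a ∈ D.map π)
    exact ⟨d, hd, rfl⟩
  by_cases hzD : z ∈ D
  · refine eq_top_iff.2 fun x _ => ?_
    obtain ⟨d, hd, hdx⟩ := hsurj (π x)
    have hc : d⁻¹ * x ∈ D := by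
      rcases hcases _ ((hker (d⁻¹ * x)).1 (by rw [map_mul, map_inv, hdx, inv_mul_cancel])) with h | h <;> rw [h]
      · exact one_mem _
      · exact hzD
    simpa using D.mul_mem hd hc
  refine absurd ?_ (hns D)
  refine Subgroup.isComplement'_of_card_mul_and_disjoint ?_ (disjoint_iff.2 ?_)
  · have hb : Function.Bijective (π.comp D.subtype) := by
      refine ⟨(injective_iff_map_eq_one _).2 fun x hx => ?_, fun a => ?_⟩
      · rcases hcases _ ((hker x).1 hx) with h1 | h1
        · exact Subtype.ext h1
        · exact absurd x.2 (h1 ▸ hzD)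
      · obtain ⟨d, hd, hda⟩ := hsurj a
        exact ⟨⟨d, hd⟩, hda⟩
    rw [Nat.card_congr (MulEquiv.ofBijective _ hb).toEquiv, h2,
      Subgroup.card_eq_card_quotient_mul_card_subgroup (Subgroup.center L), Nat.card_congr e.toEquiv, h2, mul_comm]
  · rw [Subgroup.eq_bot_iff_forall]
    exact fun x hx => (hcases x hx.1).resolve_right fun h1 => hzD (h1 ▸ hx.2)

/-- What is used of the standard subgroup. -/
structure Setting (π : L →* alternatingGroup (Fin n)) (z : L) : Prop where
  hn : 8 ≤ n
  hn' : n ≤ 11
  cov : Cover π z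
  cent : ∀ x : G, Commute x (z : G) → x ∈ Subgroup.normalizer (L : Set G)
  tight : ∀ g k : G, k ∈ Subgroup.centralizer (L : Set G) → g * k * g⁻¹ ∈ Subgroup.centralizer (L : Set G) →
    k * k = 1 → k ≠ 1 → Commute g (z : G)
  wit : ∀ r : Perm (Fin n), r * r = 1 → WitP r
  ncomm : ¬ IsMulCommutative G
  noOdd : NoOdd π z

namespace Setting

variable {π : L →* alternatingGroup (Fin n)} {z : L}

theorem t_mem (S : Setting π z) : (z : G) ∈ Subgroup.centralizer (L : Set G) :=
  Subgroup.mem_centralizer_iff.2 fun l hl => congrArg Subtype.val (S.cov.central ⟨l, hl⟩)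

theorem tt (S : Setting π z) : (z : G) * z = 1 := congrArg Subtype.val S.cov.sq_z

theorem tne (S : Setting π z) : (z : G) ≠ 1 := fun h => S.cov.zne (Subtype.ext h)

theorem center_eq (S : Setting π z) {u : L} (hu : u ∈ Subgroup.center L) : u = 1 ∨ u = z := by
  refine (S.cov.ker u).1 (Subgroup.mem_bot.1 ?_)
  rw [← alternatingGroup.center_eq_bot (α := Fin n) (by rw [Nat.card_fin]; have := S.hn; omega)]
  refine Subgroup.mem_center_iff.2 fun a => ?_
  obtain ⟨a, rfl⟩ := S.cov.surj a
  rw [← map_mul, ← map_mul, Subgroup.mem_center_iff.1 hu a]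

theorem L_meet (S : Setting π z) {l : L} (hl : (l : G) ∈ Subgroup.centralizer (L : Set G)) : l = 1 ∨ l = z :=
  S.center_eq (Subgroup.mem_center_iff.2 fun a => Subtype.ext (Subgroup.mem_centralizer_iff.1 hl a a.2))

/-- Conjugation of `L` by an element commuting with `z`. -/
def cj (S : Setting π z) (x : G) (hx : Commute x (z : G)) (l : L) : L :=
  ⟨x * l * x⁻¹, (Subgroup.mem_normalizer_iff.1 (S.cent x hx) l).1 l.2⟩

theorem cj_mul (S : Setting π z) (x : G) (hx : Commute x (z : G)) (a b : L) :
    S.cj x hx (a * b) = S.cj x hx a * S.cj x hx b := Subtype.ext (by simp [cj, mul_assoc])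

theorem cj_comp (S : Setting π z) (x y : G) (hx : Commute x (z : G)) (hy : Commute y (z : G)) (l : L) :
    S.cj x hx (S.cj y hy l) = S.cj (x * y) (hx.mul_left hy) l := Subtype.ext (by simp [cj, mul_assoc])

/-- An element commuting with `z` acts on the alternating group by a permutation. -/
theorem exists_acts (S : Setting π z) [Finite G] (x : G) (hx : Commute x (z : G)) :
    ∃ σ : Perm (Fin n), ∀ l : L, perm π (S.cj x hx l) = σ * perm π l * σ⁻¹ := by
  let c : L →* L := MonoidHom.mk' (S.cj x hx) (S.cj_mul x hx)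
  have hcz : c z = z := Subtype.ext (mul_inv_eq_iff_eq_mul.2 hx.eq)
  have hker : π.ker ≤ (π.comp c).ker := fun l hl => by
    rcases (S.cov.ker l).1 hl with e | e
    · rw [e]; exact map_one _
    · show π (c l) = 1
      rw [e, hcz, S.cov.map_z]
  let F : alternatingGroup (Fin n) →* alternatingGroup (Fin n) :=
    π.liftOfSurjective S.cov.surj ⟨π.comp c, hker⟩
  have hF : ∀ l, F (π l) = π (c l) := fun l =>
    MonoidHom.liftOfRightInverse_comp_apply _ _ _ ⟨π.comp c, hker⟩ l
  have hinj : Function.Injective F := by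
    refine (injective_iff_map_eq_one _).2 fun a ha => ?_
    obtain ⟨l, rfl⟩ := S.cov.surj a
    rw [hF] at ha
    refine (S.cov.ker l).2 ?_
    rcases (S.cov.ker _).1 ha with e | e
    · exact .inl (Subtype.ext (conj_eq_one_iff.1 (congrArg Subtype.val e)))
    · refine .inr (Subtype.ext ?_)
      have e' : x * l * x⁻¹ = x * z * x⁻¹ := (congrArg Subtype.val e).trans (congrArg Subtype.val hcz).symm
      exact mul_left_cancel (mul_right_cancel e')
  obtain ⟨σ, hσ⟩ := (Known.AltAut.bijective_conjNormal (n := n) (by have := S.hn; omega)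
    (by have := S.hn; omega)).2 (MulEquiv.ofBijective F (Finite.injective_iff_bijective.1 hinj))
  refine ⟨σ, fun l => ?_⟩
  have h := congrArg Subtype.val (DFunLike.congr_fun hσ (π l))
  rw [MulAut.conjNormal_apply] at h
  exact ((congrArg Subtype.val (hF l)).symm.trans h.symm)

theorem acts_unique (S : Setting π z) {σ τ : Perm (Fin n)}
    (h : ∀ l : L, σ * perm π l * σ⁻¹ = τ * perm π l * τ⁻¹) : σ = τ := by
  refine (Known.AltAut.bijective_conjNormal (n := n) (by have := S.hn; omega) (by have := S.hn; omega)).1 ?_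
  refine MulEquiv.ext fun a => Subtype.ext ?_
  obtain ⟨l, rfl⟩ := S.cov.surj a
  rw [MulAut.conjNormal_apply, MulAut.conjNormal_apply]
  exact h l

/-- The permutation by which an element commuting with `z` acts. -/
noncomputable def psi (S : Setting π z) [Finite G] (x : G) (hx : Commute x (z : G)) : Perm (Fin n) :=
  (S.exists_acts x hx).choose

theorem psi_spec (S : Setting π z) [Finite G] (x : G) (hx : Commute x (z : G)) (l : L) :
    perm π (S.cj x hx l) = S.psi x hx * perm π l * (S.psi x hx)⁻¹ :=
  (S.exists_acts x hx).choose_spec l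

theorem psi_eq (S : Setting π z) [Finite G] {x : G} {hx : Commute x (z : G)} {σ : Perm (Fin n)}
    (h : ∀ l : L, perm π (S.cj x hx l) = σ * perm π l * σ⁻¹) : S.psi x hx = σ :=
  S.acts_unique fun l => (S.psi_spec x hx l).symm.trans (h l)

/-- The action as a homomorphism. -/
noncomputable def act (S : Setting π z) [Finite G] :
    Subgroup.centralizer ({(z : G)} : Set G) →* Perm (Fin n) :=
  MonoidHom.mk' (fun x => S.psi x (Subgroup.mem_centralizer_singleton_iff.1 x.2)) fun x y => by
    refine S.psi_eq fun l => ?_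
    have hx : Commute (x : G) z := Subgroup.mem_centralizer_singleton_iff.1 x.2
    have hy : Commute (y : G) z := Subgroup.mem_centralizer_singleton_iff.1 y.2
    have h1 := S.psi_spec x hx (S.cj y hy l)
    rw [S.psi_spec y hy, S.cj_comp] at h1
    rw [mul_inv_rev]
    exact h1.trans (by group)

theorem act_spec (S : Setting π z) [Finite G] (x : Subgroup.centralizer ({(z : G)} : Set G)) (l m : L)
    (h : (m : G) = x * l * (x : G)⁻¹) : perm π m = S.act x * perm π l * (S.act x)⁻¹ := by
  rw [show m = S.cj x (Subgroup.mem_centralizer_singleton_iff.1 x.2) l from Subtype.ext h]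
  exact S.psi_spec _ _ _

theorem commute_z (S : Setting π z) (l : L) : Commute (l : G) (z : G) :=
  congrArg Subtype.val (S.cov.central l)

/-- On `L` the action is the projection. -/
theorem act_L (S : Setting π z) [Finite G] (l : L) :
    S.act ⟨l, Subgroup.mem_centralizer_singleton_iff.2 (S.commute_z l)⟩ = perm π l :=
  S.psi_eq fun m => by
    rw [← map_inv, ← map_mul, ← map_mul]
    rfl

/-- The kernel of the action is the centraliser of `L`. -/
theorem act_eq_one (S : Setting π z) [Finite G] {x : Subgroup.centralizer ({(z : G)} : Set G)} :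
    S.act x = 1 ↔ (x : G) ∈ Subgroup.centralizer (L : Set G) := by
  have hx : Commute (x : G) z := Subgroup.mem_centralizer_singleton_iff.1 x.2
  constructor
  · intro h
    have hδ : ∀ l : L, S.cj x hx l = l ∨ S.cj x hx l = z * l := fun l => S.cov.eq_or (Subtype.ext (by
      show perm π (S.cj x hx l) = perm π l
      rw [S.act_spec x l _ rfl, h, one_mul, inv_one, mul_one]))
    let c : L →* L := MonoidHom.mk' (S.cj x hx) (S.cj_mul x hx)
    have hle : commutator L ≤ c.eqLocus (MonoidHom.id L) := by
      rw [commutator_def, Subgroup.commutator_le]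
      intro a _ b _
      show c ⁅a, b⁆ = ⁅a, b⁆
      rw [map_commutatorElement]
      have hzc : ∀ u v : L, ⁅z * u, v⁆ = ⁅u, v⁆ ∧ ⁅u, z * v⁆ = ⁅u, v⁆ := by
        intro u v
        have hc : ∀ w, Commute z w := fun w => (S.cov.central w).symm
        constructor <;> simp only [commutatorElement_def, mul_inv_rev]
        · rw [show z * u * v * (u⁻¹ * z⁻¹) * v⁻¹ = z * (u * v * u⁻¹) * z⁻¹ * v⁻¹ by group,
            (hc _).eq, mul_inv_cancel_right]
        · rw [show u * (z * v) * u⁻¹ * (v⁻¹ * z⁻¹) = u * z * (v * u⁻¹ * v⁻¹) * z⁻¹ by group,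
            ← (hc u).eq, mul_assoc z u, (hc _).eq, mul_inv_cancel_right]
          group
      rcases hδ a with ea | ea <;> rcases hδ b with eb | eb <;>
        simp only [c, MonoidHom.mk'_apply, ea, eb, hzc]
    refine Subgroup.mem_centralizer_iff.2 fun l hl => ?_
    have e : c ⟨l, hl⟩ = ⟨l, hl⟩ := hle (S.cov.perfect ▸ Subgroup.mem_top _)
    exact (mul_inv_eq_iff_eq_mul.1 (congrArg Subtype.val e)).symm
  · intro h
    refine S.psi_eq fun l => ?_
    rw [one_mul, inv_one, mul_one]
    exact congrArg (perm π) (Subtype.ext (mul_inv_eq_iff_eq_mul.2 (Subgroup.mem_centralizer_iff.1 h l l.2).symm))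

/-- An element of order dividing three is fixed by whatever fixes its image. -/
theorem commute_cube (S : Setting π z) [Finite G] {x : Subgroup.centralizer ({(z : G)} : Set G)} {a : L}
    (ha : a ^ 3 = 1) (hc : Commute (S.act x) (perm π a)) : Commute (x : G) a := by
  have h3 : (S.cj x (Subgroup.mem_centralizer_singleton_iff.1 x.2) a) ^ 3 = 1 :=
    Subtype.ext (by
      show ((x : G) * a * (x : G)⁻¹) ^ 3 = 1
      rw [conj_pow, show (a : G) ^ 3 = 1 from congrArg Subtype.val ha, mul_one, mul_inv_cancel])
  have h := CoverType.eq_of_cube S.cov h3 ha (Subtype.ext (by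
    show perm π (S.cj x _ a) = perm π a
    rw [S.act_spec x a _ rfl, hc.eq, mul_inv_cancel_right]))
  exact mul_inv_eq_iff_eq_mul.1 (congrArg Subtype.val h)

end Setting

end CfsgLib.StdCover
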