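import Cfsg.Agent.Lib.StdCover.Core
import Cfsg.Agent.Lib.CoNoughtStd.Fusion
import Cfsg.Agent.Lib.FGS.PrimePowerOrbits
import Mathlib.GroupTheory.SchurZassenhaus
import Cfsg.Prelude.Def_Involutions

/-!
# The structure of the centraliser of a standard double cover, and the odd part

The centraliser of `z` is the product of `L` and the odd part `D` of the centraliser of `L`, every fusion of `z`
inside its centraliser normalises `D`, and the normaliser of `D` is strongly embedded when it is proper.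
-/

set_option autoImplicit false

namespace CfsgLib.StdCover.Setting

open Equiv Equiv.Perm AltCover

variable {G : Type*} [Group G] [Finite G] [IsSimpleGroup G] {n : ℕ} {L : Subgroup G}
  {π : L →* alternatingGroup (Fin n)} {z : L}

/-- The element of the centraliser of `z` given by an element of `L`. -/
def lC (S : Setting π z) (l : L) : Subgroup.centralizer ({(z : G)} : Set G) :=
  ⟨l, Subgroup.mem_centralizer_singleton_iff.2 (S.commute_z l)⟩

theorem act_lC (S : Setting π z) (l : L) : S.act (S.lC l) = perm π l := S.act_L l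

/-- A two-element centralising `L` is `1` or `z`. -/
theorem two_elt (S : Setting π z) {k : G} (hk : k ∈ Subgroup.centralizer (L : Set G))
    (h2 : ∃ m, k ^ 2 ^ m = 1) : k = 1 ∨ k = z := by
  obtain ⟨g, hg⟩ := S.exists_pair
  obtain ⟨l, hl, -⟩ := S.pair_mem hg
  have hke : ∀ k ∈ Subgroup.centralizer (L : Set G), Commute k (g * z * g⁻¹) := fun k hk =>
    hl ▸ (Subgroup.mem_centralizer_iff.1 hk l l.2).symm
  obtain ⟨m, hm⟩ := h2
  induction m generalizing k with
  | zero => left; simpa using hm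
  | succ m ih =>
    refine S.cases_small hg hk (hke k hk) (ih (Subgroup.mul_mem _ hk hk) ?_)
    rw [← hm, pow_succ' 2 m, pow_mul, pow_two]

/-- An even element of two-power order is in `L`. -/
theorem two_mem_L (S : Setting π z) {x : Subgroup.centralizer ({(z : G)} : Set G)} (hs : sign (S.act x) = 1)
    (h2 : ∃ m, x ^ 2 ^ m = 1) : (x : G) ∈ L := by
  obtain ⟨l, hl⟩ := CoverType.exists_lift S.cov hs
  have hk : (((S.lC l)⁻¹ * x : _) : G) ∈ Subgroup.centralizer (L : Set G) :=
    S.act_eq_one.1 (by rw [map_mul, map_inv, S.act_lC, show perm π l = S.act x from hl, inv_mul_cancel])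
  set k : G := (l : G)⁻¹ * x with hkdef
  have hk' : k ∈ Subgroup.centralizer (L : Set G) := hk
  have hkl : Commute (l : G) k := Subgroup.mem_centralizer_iff.1 hk' l l.2
  obtain ⟨m, hm⟩ := h2
  have hx : (x : G) = l * k := by rw [hkdef, mul_inv_cancel_left]
  have hpw : (l : G) ^ 2 ^ m * k ^ 2 ^ m = 1 := by
    rw [← hkl.mul_pow, ← hx]; exact congrArg Subtype.val hm
  have hkz : ((l ^ 2 ^ m : L) : G) ∈ Subgroup.centralizer (L : Set G) := by
    rw [SubmonoidClass.coe_pow, eq_inv_of_mul_eq_one_left hpw]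
    exact Subgroup.inv_mem _ (Subgroup.pow_mem _ hk' _)
  have hk2 : k ^ 2 ^ (m + 1) = 1 := by
    have e : (k ^ 2 ^ m) = ((l ^ 2 ^ m : L) : G)⁻¹ := by
      rw [SubmonoidClass.coe_pow]; exact eq_inv_of_mul_eq_one_right hpw
    rw [pow_succ, pow_mul, e]
    rcases S.L_meet hkz with e1 | e1 <;> rw [e1]
    · simp
    · rw [pow_two, ← mul_inv_rev, S.tt, inv_one]
  rcases S.two_elt hk' ⟨m + 1, hk2⟩ with e | e
  · rw [hx, e, mul_one]; exact l.2
  · rw [hx, e]; exact mul_mem l.2 z.2

/-- An even involution commuting with `z` is a conjugate of `z`. -/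
theorem conj_of_invol (S : Setting π z) {x : Subgroup.centralizer ({(z : G)} : Set G)}
    (hs : sign (S.act x) = 1) (h2 : x * x = 1) (h1 : x ≠ 1) : ∃ h : G, (x : G) = h * z * h⁻¹ := by
  obtain ⟨u, hu⟩ : ∃ u : L, (u : G) = x := ⟨⟨x, S.two_mem_L hs ⟨1, by rw [pow_one, pow_two, h2]⟩⟩, rfl⟩
  by_cases huz : u = z
  · exact ⟨1, by rw [← hu, huz]; group⟩
  obtain ⟨g, hg⟩ := S.exists_pair
  obtain ⟨l, hl, hl2, hl1, hlz⟩ := S.pair_mem hg
  have hn := S.hn
  obtain ⟨c, hc⟩ := CoverType.invol_conj S.cov (by omega) S.hn' (x := u) (y := l)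
    (Subtype.ext (by rw [Subgroup.coe_mul, hu]; exact congrArg Subtype.val h2))
    (fun e => h1 (Subtype.ext (by rw [← hu, e]; rfl))) huz hl2 hl1 hlz
  refine ⟨(c : G)⁻¹ * g, ?_⟩
  rw [show (c : G)⁻¹ * g * z * ((c : G)⁻¹ * g)⁻¹ = (c : G)⁻¹ * (g * z * g⁻¹) * c by group, ← hl, ← hu,
    show (l : G) = c * u * (c : G)⁻¹ from (congrArg Subtype.val hc).symm]
  group

/-- The centraliser of `z` contains a Sylow two-subgroup of `G`. -/
theorem sylow_le (S : Setting π z) (P : Sylow 2 (Subgroup.centralizer ({(z : G)} : Set G))) :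
    ∃ Q : Sylow 2 G, (Q : Subgroup G) = (P : Subgroup _).map (Subgroup.centralizer ({(z : G)} : Set G)).subtype := by
  haveI : Fact (Nat.Prime 2) := ⟨Nat.prime_two⟩
  let C := Subgroup.centralizer ({(z : G)} : Set G)
  obtain ⟨Q, hQ⟩ := (P.isPGroup'.map C.subtype).exists_le_sylow
  refine ⟨Q, (eq_of_le_of_not_lt hQ fun hlt => ?_).symm⟩
  set P' := (P : Subgroup C).map C.subtype with hP'
  have hlt' : P'.subgroupOf (Q : Subgroup G) < ⊤ := lt_top_iff_ne_top.2 fun e =>
    (not_le_of_gt hlt) fun x hx => by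
      have h1 : (⟨x, hx⟩ : (Q : Subgroup G)) ∈ P'.subgroupOf (Q : Subgroup G) := e ▸ Subgroup.mem_top _
      exact h1
  haveI : Group.IsNilpotent (Q : Subgroup G) := Q.isPGroup'.isNilpotent
  obtain ⟨g, hgn, hgP⟩ := SetLike.exists_of_lt (Group.normalizerCondition_of_isNilpotent _ hlt')
  have hmax : (Q : Subgroup G).comap C.subtype = P :=
    P.3 (Q.isPGroup'.comap_of_injective C.subtype C.subtype_injective) (Subgroup.map_le_iff_le_comap.1 hQ)
  have hgC : ¬ Commute (g : G) z := fun e => hgP (by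
    have h1 : (⟨g, Subgroup.mem_centralizer_singleton_iff.2 e.eq⟩ : C) ∈ (Q : Subgroup G).comap C.subtype := g.2
    rw [hmax] at h1
    exact ⟨_, h1, rfl⟩)
  have hzP : (z : G) ∈ P' := by
    let zC : C := ⟨z, Subgroup.mem_centralizer_singleton_iff.2 rfl⟩
    haveI : (Subgroup.zpowers zC).Normal := ⟨fun x hx c => by
      obtain ⟨i, rfl⟩ := Subgroup.mem_zpowers_iff.1 hx
      have hcz : Commute c (zC ^ i) :=
        Commute.zpow_right (Subtype.ext (Subgroup.mem_centralizer_singleton_iff.1 c.2)) i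
      rw [hcz.eq, mul_inv_cancel_right]
      exact zpow_mem (Subgroup.mem_zpowers _) i⟩
    have hp : IsPGroup 2 (Subgroup.zpowers zC) := IsPGroup.of_card (n := 1) (by
      rw [Nat.card_zpowers, pow_one]
      exact orderOf_eq_prime (by rw [pow_two]; exact Subtype.ext S.tt) fun e => S.tne (congrArg Subtype.val e))
    have h1 : (P : Subgroup C) ⊔ Subgroup.zpowers zC = P := P.3 (P.isPGroup'.to_sup_of_normal_right hp) le_sup_left
    exact ⟨zC, h1 ▸ Subgroup.mem_sup_right (Subgroup.mem_zpowers zC), rfl⟩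
  have hP'C : ∀ x ∈ P', Commute x (z : G) := by
    rintro _ ⟨x, -, rfl⟩; exact Subgroup.mem_centralizer_singleton_iff.1 x.2
  have hnorm : ∀ x ∈ P', (g : G) * x * (g : G)⁻¹ ∈ P' ∧ (g : G)⁻¹ * x * g ∈ P' := by
    intro x hx
    have hxQ : x ∈ (Q : Subgroup G) := hQ hx
    refine ⟨(Subgroup.mem_normalizer_iff.1 hgn ⟨x, hxQ⟩).1 hx, ?_⟩
    have h := (Subgroup.mem_normalizer_iff.1 hgn (g⁻¹ * ⟨x, hxQ⟩ * g)).2 (by
      rw [show g * (g⁻¹ * (⟨x, hxQ⟩ : (Q : Subgroup G)) * g) * g⁻¹ = ⟨x, hxQ⟩ by group]; exact hx)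
    exact h
  have hpair : Pair z (g : G) := ⟨hP'C _ (hnorm _ hzP).1, hgC⟩
  obtain ⟨l, hl, hl2, hl1, hlz⟩ := S.pair_mem hpair
  have hcent : (P : Subgroup C) ≤ Subgroup.centralizer ({S.lC l} : Set C) := fun x hx =>
    Subgroup.mem_centralizer_singleton_iff.2 (Subtype.ext (by
      have e := (hP'C _ (hnorm _ ⟨x, hx, rfl⟩).2).map (MulAut.conj (g : G)).toMonoidHom
      have e' : Commute (x : G) (g * z * (g : G)⁻¹) := by simpa [mul_assoc] using e
      show (x : G) * l = l * x
      rw [hl]; exact e'.eq))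
  refine P.not_dvd_index (dvd_trans ?_ (Subgroup.index_dvd_of_le hcent))
  let zC : C := ⟨z, Subgroup.mem_centralizer_singleton_iff.2 rfl⟩
  refine CoNoughtStd.even_index (y := S.lC l) (z := zC)
    (fun c => Subtype.ext (Subgroup.mem_centralizer_singleton_iff.1 c.2)) (Subtype.ext S.tt) ?_ ?_
  · intro e
    exact S.cov.zne (mul_eq_left.1 (Subtype.ext (congrArg Subtype.val e :) : l * z = l))
  · have hn := S.hn
    obtain ⟨k, hk⟩ := S.cov.exists_anti (by omega) (x := l) (by
      rw [CoverType.cycleType_invol S.cov (by omega) S.hn' hl2 hl1 hlz]; simp)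
    refine isConj_iff.2 ⟨S.lC k, Subtype.ext ?_⟩
    show (k : G) * l * (k : G)⁻¹ = l * z
    rw [← Subgroup.coe_inv, ← Subgroup.coe_mul, ← Subgroup.coe_mul, hk, ← S.cov.central l]
    rfl

/-- Every element commuting with `z` acts evenly. -/
theorem act_even (S : Setting π z) (x : Subgroup.centralizer ({(z : G)} : Set G)) : sign (S.act x) = 1 := by
  haveI : Fact (Nat.Prime 2) := ⟨Nat.prime_two⟩
  by_contra hodd
  have hodd' : sign (S.act x) = -1 := (Int.units_eq_one_or _).resolve_left hodd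
  let C := Subgroup.centralizer ({(z : G)} : Set G)
  have hn := S.hn
  have h01 : (⟨0, by omega⟩ : Fin n) ≠ ⟨1, by omega⟩ := by simp
  set τ := swap (⟨0, by omega⟩ : Fin n) ⟨1, by omega⟩ with hτ
  obtain ⟨l, hl⟩ := CoverType.exists_lift S.cov (a := S.act x * τ) (by
    rw [map_mul, hodd', sign_swap h01]; rfl)
  let y : C := (S.lC l)⁻¹ * x
  have hy : S.act y = τ := by
    rw [map_mul, map_inv, S.act_lC, show perm π l = S.act x * τ from hl, mul_inv_rev, mul_assoc, inv_mul_cancel,
      mul_one, swap_inv]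
  obtain ⟨a, m, hm, hord⟩ := Nat.exists_eq_two_pow_mul_odd (orderOf_pos y).ne'
  let s : C := y ^ m
  have hs : S.act s = τ := by
    obtain ⟨j, rfl⟩ := hm
    rw [map_pow, hy, pow_succ, pow_mul, show τ ^ 2 = 1 by rw [pow_two, swap_mul_self], one_pow, one_mul]
  have hs2 : s ^ 2 ^ a = 1 := by rw [← pow_mul, mul_comm, ← hord, pow_orderOf_eq_one]
  obtain ⟨s', hs'2, hs'odd⟩ : ∃ s' : C, s' * s' = 1 ∧ sign (S.act s') = -1 := by
    have hsK : ((s * s : C) : G) ∈ Subgroup.centralizer (L : Set G) :=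
      S.act_eq_one.1 (by rw [map_mul, hs, swap_mul_self])
    have hsq : ((s * s : C) : G) ^ 2 ^ a = 1 := by
      rw [← SubmonoidClass.coe_pow, (Commute.refl s).mul_pow, hs2, one_mul]
      rfl
    rcases S.two_elt hsK ⟨a, hsq⟩ with e | e
    · exact ⟨s, Subtype.ext e, by rw [hs, sign_swap h01]⟩
    obtain ⟨A, B, hA3, hB3, hAr, hBr, hAB, -⟩ := S.wit τ (swap_mul_self _ _)
    obtain ⟨a', ha', ha3⟩ := CoverType.exists_lift_cube S.cov hA3
    obtain ⟨b', hb', hb3⟩ := CoverType.exists_lift_cube S.cov hB3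
    have hac : Commute (s : G) a' := S.commute_cube (x := s) ha3 (by
      rw [hs, show perm π a' = A from ha']; exact hAr.symm)
    have hbc : Commute (s : G) b' := S.commute_cube (x := s) hb3 (by
      rw [hs, show perm π b' = B from hb']; exact hBr.symm)
    have hpi : perm π (a' * b') = A * B := by
      rw [map_mul, show perm π a' = A from ha', show perm π b' = B from hb']
    have hii : (a' * b') * (a' * b') = z := S.cov.dt_sq (by omega) (x := a' * b') (by
      show (perm π (a' * b')).cycleType = _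
      rw [hpi, hAB])
    refine ⟨s * S.lC (a' * b'), Subtype.ext ?_, ?_⟩
    · show (s : G) * ((a' : G) * b') * ((s : G) * ((a' : G) * b')) = 1
      rw [show (s : G) * ((a' : G) * b') * ((s : G) * ((a' : G) * b')) =
          s * (((a' : G) * b') * s) * ((a' : G) * b') by group, ← (hac.mul_right hbc).eq,
        show (s : G) * ((s : G) * ((a' : G) * b')) * ((a' : G) * b') =
          ((s : G) * s) * (((a' : G) * b') * ((a' : G) * b')) by group,
        show (a' : G) * b' * (a' * b') = z from congrArg Subtype.val hii,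
        show (s : G) * s = z from e, S.tt]
    · rw [map_mul, hs, S.act_lC, map_mul, sign_swap h01, perm_apply, mem_alternatingGroup.1 (π _).2, mul_one]
  obtain ⟨P, hP⟩ := (IsPGroup.of_card (n := 1) (by
    rw [Nat.card_zpowers, pow_one]
    exact orderOf_eq_prime (by rw [pow_two]; exact hs'2) fun e => by
      rw [e, map_one, map_one] at hs'odd; exact absurd hs'odd (by decide)) :
    IsPGroup 2 (Subgroup.zpowers s')).exists_le_sylow
  obtain ⟨Q, hQ⟩ := S.sylow_le P
  let Ev : Subgroup C := (Equiv.Perm.sign.comp S.act).ker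
  let M : Subgroup G := ((P : Subgroup C) ⊓ Ev).map C.subtype
  have hMQ : M ≤ (Q : Subgroup G) := by rw [hQ]; exact Subgroup.map_mono inf_le_left
  have hidx : M.relIndex (Q : Subgroup G) = 2 := by
    rw [Subgroup.relIndex, Subgroup.index_eq_two_iff]
    have hs'Q : (s' : G) ∈ (Q : Subgroup G) := hQ ▸ ⟨s', hP (Subgroup.mem_zpowers _), rfl⟩
    refine ⟨⟨s', hs'Q⟩, fun b => ?_⟩
    obtain ⟨b', hb', hbb⟩ : (b : G) ∈ (P : Subgroup C).map C.subtype := hQ ▸ b.2
    have key : ∀ u : C, u ∈ (P : Subgroup C) → ((u : G) ∈ M ↔ sign (S.act u) = 1) := fun u hu =>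
      (Subgroup.mem_map_iff_mem C.subtype_injective).trans ⟨fun h => h.2, fun h => ⟨hu, h⟩⟩
    have k1 : (b : G) * s' ∈ M ↔ sign (S.act (b' * s')) = 1 := by
      rw [← key _ (mul_mem hb' (hP (Subgroup.mem_zpowers _))), Subgroup.coe_mul, ← hbb]
      rfl
    have k2 : (b : G) ∈ M ↔ sign (S.act b') = 1 := by rw [← key _ hb', ← hbb]; rfl
    rw [Subgroup.mem_subgroupOf, Subgroup.mem_subgroupOf, Subgroup.coe_mul, k1, k2, map_mul, map_mul, hs'odd]
    rcases Int.units_eq_one_or (sign (S.act b')) with e | e <;> rw [e]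
    · exact Or.inr ⟨rfl, by decide⟩
    · exact Or.inl ⟨rfl, by decide⟩
  have hperf : commutator G = ⊤ := by
    refine ((inferInstance : (commutator G).Normal).eq_bot_or_eq_top).resolve_left fun e => S.ncomm ⟨⟨fun a b => ?_⟩⟩
    exact commutatorElement_eq_one_iff_mul_comm.1 (Subgroup.mem_bot.1
      (e ▸ Subgroup.commutator_mem_commutator (Subgroup.mem_top a) (Subgroup.mem_top b)))
  have hs'o : orderOf (s' : G) = 2 := orderOf_eq_prime (by rw [pow_two]; exact congrArg Subtype.val hs'2)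
    fun e => by
      rw [show s' = 1 from Subtype.ext e, map_one, map_one] at hs'odd
      exact absurd hs'odd (by decide)
  obtain ⟨g, u, ⟨huP, hue⟩, hu⟩ := Cfsg.Agent.PrimePowerOrbits.exists_conj_of_relIndex_two hperf Q M hMQ hidx hs'o
  have hu1 : u ≠ 1 := fun e => by
    have e' : (s' : G) = g * (u : G) * g⁻¹ := by rw [show (u : G) = g⁻¹ * s' * g from hu]; group
    rw [e, Subgroup.coe_one, mul_one, mul_inv_cancel] at e'
    rw [e', orderOf_one] at hs'o
    omega
  have hu2 : u * u = 1 := Subtype.ext (by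
    show (u : G) * u = 1
    rw [show (u : G) = g⁻¹ * s' * g from hu,
      show g⁻¹ * (s' : G) * g * (g⁻¹ * s' * g) = g⁻¹ * ((s' : G) * s') * g by group,
      show (s' : G) * s' = 1 from congrArg Subtype.val hs'2]
    group)
  obtain ⟨h, hh⟩ := S.conj_of_invol (x := u) hue hu2 hu1
  have hs'z : (s' : G) = g * h * z * (g * h)⁻¹ := by
    rw [show g * h * (z : G) * (g * h)⁻¹ = g * (h * z * h⁻¹) * g⁻¹ by group, ← hh,
      show (u : G) = g⁻¹ * s' * g from hu]
    group
  by_cases hc : Commute (g * h) (z : G)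
  · rw [hc.eq, mul_inv_cancel_right] at hs'z
    rw [show s' = S.lC z from Subtype.ext hs'z, S.act_lC, perm_apply, mem_alternatingGroup.1 (π z).2] at hs'odd
    exact absurd hs'odd (by decide)
  · obtain ⟨l', hl', -⟩ := S.pair_mem ⟨hs'z ▸ (Subgroup.mem_centralizer_singleton_iff.1 s'.2 :), hc⟩
    rw [show s' = S.lC l' from Subtype.ext (hs'z.trans hl'.symm), S.act_lC, perm_apply,
      mem_alternatingGroup.1 (π l').2] at hs'odd
    exact absurd hs'odd (by decide)

/-- The odd part of the centraliser of `L`. -/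
theorem exists_oddPart (S : Setting π z) :
    ∃ D : Subgroup G, Odd (Nat.card D) ∧
      (∀ x, x ∈ D ↔ x ∈ Subgroup.centralizer (L : Set G) ∧ Odd (orderOf x)) ∧
      ∀ k ∈ Subgroup.centralizer (L : Set G), k ∈ D ∨ k * z ∈ D := by
  haveI : Fact (Nat.Prime 2) := ⟨Nat.prime_two⟩
  set K := Subgroup.centralizer (L : Set G) with hK
  let zK : K := ⟨z, S.t_mem⟩
  have hzc : ∀ k : K, k * zK = zK * k := fun k =>
    Subtype.ext (Subgroup.mem_centralizer_iff.1 k.2 (z : G) z.2).symm
  have hzo : orderOf zK = 2 := orderOf_eq_prime (by rw [pow_two]; exact Subtype.ext S.tt)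
    fun e => S.tne (congrArg Subtype.val e)
  set N := Subgroup.zpowers zK with hN
  haveI : N.Normal := ⟨fun x hx c => by
    obtain ⟨i, rfl⟩ := Subgroup.mem_zpowers_iff.1 hx
    rw [(Commute.zpow_right (hzc c) i).eq, mul_inv_cancel_right]
    exact zpow_mem (Subgroup.mem_zpowers _) i⟩
  have hNmem : ∀ x ∈ N, x = 1 ∨ x = zK := fun x hx => by
    obtain ⟨i, rfl⟩ := Subgroup.mem_zpowers_iff.1 hx
    rw [← zpow_mod_orderOf, hzo]
    rcases Int.emod_two_eq_zero_or_one i with h0 | h0 <;> simp [h0]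
  have hNodd : Odd N.index := by
    rw [← Nat.not_even_iff_odd, even_iff_two_dvd, Subgroup.index_eq_card]
    intro h
    obtain ⟨q, hq⟩ := exists_prime_orderOf_dvd_card' 2 h
    obtain ⟨k, rfl⟩ := QuotientGroup.mk_surjective q
    have hq2 : k * k ∈ N := (QuotientGroup.eq_one_iff _).1 (by
      rw [QuotientGroup.mk_mul, ← pow_two, ← hq, pow_orderOf_eq_one])
    have hk4 : (k : G) ^ 2 ^ 2 = 1 := by
      have e : (k * k) * (k * k) = 1 := by
        rcases hNmem _ hq2 with e | e <;> rw [e]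
        · rw [mul_one]
        · exact Subtype.ext S.tt
      have e' := congrArg Subtype.val e
      simpa [pow_succ, mul_assoc] using e'
    have hkN : k ∈ N := by
      rcases S.two_elt k.2 ⟨2, hk4⟩ with e | e
      · rw [show k = 1 from Subtype.ext e]; exact one_mem _
      · rw [show k = zK from Subtype.ext e]; exact Subgroup.mem_zpowers _
    rw [(QuotientGroup.eq_one_iff k).2 hkN, orderOf_one] at hq
    omega
  obtain ⟨H, hH⟩ := Subgroup.exists_right_complement'_of_coprime (N := N) (by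
    rw [Nat.card_zpowers, hzo]
    exact Nat.coprime_two_left.2 hNodd)
  have hHodd : Odd (Nat.card H) := by
    have h1 := hH.card_mul
    rw [Nat.card_zpowers, hzo, ← Subgroup.card_mul_index N, Nat.card_zpowers, hzo] at h1
    rwa [Nat.eq_of_mul_eq_mul_left (by norm_num) h1]
  refine ⟨H.map K.subtype, by rwa [Subgroup.card_map_of_injective K.subtype_injective],
    fun x => ⟨?_, ?_⟩, fun k hk => ?_⟩
  · rintro ⟨h, hh, rfl⟩
    refine ⟨h.2, hHodd.of_dvd_nat ?_⟩
    rw [orderOf_injective K.subtype K.subtype_injective, ← Subgroup.orderOf_mk (ha := hh)]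
    exact orderOf_dvd_natCard _
  · rintro ⟨hx, ho⟩
    obtain ⟨⟨⟨a, ha⟩, b⟩, hab⟩ := hH.2 ⟨x, hx⟩
    have hab' : ((a : K) : G) * ((b : K) : G) = x := congrArg Subtype.val hab
    rcases hNmem a ha with e | e
    · exact ⟨b, b.2, by rw [← hab', e]; simp⟩
    · exfalso
      have hx' : x = z * ((b : K) : G) := by
        rw [← hab', e]
      obtain ⟨j, hj⟩ := ho
      obtain ⟨i, hi⟩ := hHodd
      have hb : ((b : K) : G) ^ (2 * i + 1) = 1 := by
        rw [← hi, ← SubmonoidClass.coe_pow, ← SubmonoidClass.coe_pow, pow_card_eq_one']; rfl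
      have e1 : x ^ ((2 * j + 1) * (2 * i + 1)) = 1 := by
        rw [pow_mul, ← hj, pow_orderOf_eq_one, one_pow]
      rw [hx', (show Commute (z : G) ((b : K) : G) from Subgroup.mem_centralizer_iff.1 (b : K).2 z z.2).mul_pow,
        mul_comm (2 * j + 1), pow_mul ((b : K) : G), hb, one_pow, mul_one,
        show (2 * i + 1) * (2 * j + 1) = 2 * (2 * i * j + i + j) + 1 by ring, pow_succ, pow_mul,
        pow_two, S.tt, one_pow, one_mul] at e1
      exact S.tne e1
  · obtain ⟨⟨⟨a, ha⟩, b⟩, hab⟩ := hH.2 ⟨k, hk⟩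
    have hk' : k = ((a : K) : G) * ((b : K) : G) := (congrArg Subtype.val hab :).symm
    rcases hNmem a ha with e | e
    · exact .inl ⟨b, b.2, by rw [hk', e]; simp⟩
    · refine .inr ⟨b, b.2, ?_⟩
      rw [hk', e, mul_assoc, ← (Subgroup.mem_centralizer_iff.1 (b : K).2 (z : G) z.2), ← mul_assoc]
      show ((b : K) : G) = (z : G) * z * (b : K)
      rw [S.tt, one_mul]

end CfsgLib.StdCover.Setting
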